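import Mathlib
import Cfsg.Agent.H672.RM.SM
set_option linter.all false

/-!
# Group theory for the central case
-/

set_option autoImplicit false
set_option linter.style.haveILetI false
set_option linter.unusedSectionVars false

namespace Cfsg.Agent.H676.RM.Grp

variable {Γ : Type*} [Group Γ] [Finite Γ] {p : ℕ} [Fact p.Prime]

omit [Finite Γ] [Fact p.Prime] in
theorem mem_of_pow_mem {Z : Subgroup Γ} {g : Γ} {a b : ℕ} (hab : Nat.Coprime a b) (ha : g ^ a ∈ Z)
    (hb : g ^ b ∈ Z) : g ∈ Z := by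
  obtain ⟨u, v, huv⟩ := Nat.isCoprime_iff_coprime.2 hab
  have h1 : g = (g ^ a) ^ u * (g ^ b) ^ v := by
    rw [← zpow_natCast, ← zpow_natCast, ← zpow_mul, ← zpow_mul, ← zpow_add,
      show (a : ℤ) * u + (b : ℤ) * v = 1 by rw [← huv]; ring, zpow_one]
  rw [h1]
  exact Z.mul_mem (Z.zpow_mem ha _) (Z.zpow_mem hb _)

/-- a central `p`-element is in every Sylow subgroup -/
theorem central_mem_sylow (S : Sylow p Γ) {x : Γ} (hx : x ∈ Subgroup.center Γ) {n : ℕ}
    (hn : x ^ p ^ n = 1) : x ∈ S := by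
  have h1 : IsPGroup p (Subgroup.zpowers x) := by
    rintro ⟨y, hy⟩
    obtain ⟨k, rfl⟩ := hy
    refine ⟨n, Subtype.ext ?_⟩
    show (x ^ k) ^ p ^ n = 1
    rw [← zpow_natCast, ← zpow_mul, mul_comm, zpow_mul, zpow_natCast, hn, one_zpow]
  obtain ⟨Q, hQ⟩ := h1.exists_le_sylow
  obtain ⟨g, hg⟩ := MulAction.exists_smul_eq Γ Q S
  rw [← hg]
  have h2 : x ∈ (Q : Subgroup Γ) := hQ (Subgroup.mem_zpowers x)
  have h3 := Subgroup.smul_mem_pointwise_smul _ (MulAut.conj g) (Q : Subgroup Γ) h2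
  have h4 : MulAut.conj g • x = x := by
    show g * x * g⁻¹ = x
    rw [Subgroup.mem_center_iff.1 hx g, mul_inv_cancel_right]
  rw [h4] at h3
  exact h3

theorem not_dvd_orderOf {H : Subgroup Γ} (hH : ¬ p ∣ Nat.card H) {h : Γ} (hh : h ∈ H) :
    ¬ p ∣ orderOf h := fun hd => hH (hd.trans (by
  have : orderOf (⟨h, hh⟩ : H) = orderOf h := Subgroup.orderOf_mk h hh
  rw [← this]
  exact orderOf_dvd_natCard _))

/-- a normal subgroup with a central Sylow subgroup has a normal `p`-complement. -/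
theorem exists_hall {Z K : Subgroup Γ} (hZ : Z ≤ Subgroup.center Γ) [hKn : K.Normal] (hZK : Z ≤ K)
    (hK : ¬ p ∣ Z.relIndex K) (S : Sylow p Γ) :
    ∃ K0 : Subgroup Γ, K0.Normal ∧ (∀ g, g ∈ K0 ↔ g ∈ K ∧ ¬ p ∣ orderOf g) ∧
      ¬ p ∣ Nat.card K0 ∧ K ≤ K0 ⊔ (S : Subgroup Γ) := by
  obtain ⟨Q⟩ : Nonempty (Sylow p Z) := inferInstance
  obtain ⟨P, hP⟩ : ∃ P : Subgroup Γ, P = (Q : Subgroup Z).map Z.subtype := ⟨_, rfl⟩
  have hPZ : P ≤ Z := hP ▸ Subgroup.map_subtype_le _
  have hPp : IsPGroup p P := hP ▸ Q.isPGroup'.map _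
  have hPi : ¬ p ∣ P.relIndex K := by
    rw [← Subgroup.relIndex_mul_relIndex _ _ _ hPZ hZK]
    intro hd
    rcases (Nat.Prime.dvd_mul Fact.out).1 hd with h1 | h1
    · apply Q.not_dvd_index
      have : P.relIndex Z = (Q : Subgroup Z).index := by
        rw [hP, Subgroup.relIndex, Subgroup.subgroupOf,
          Subgroup.comap_map_eq_self_of_injective Z.subtype_injective]
      rwa [← this]
    · exact hK h1
  have hPS : P ≤ S := by
    intro x hx
    obtain ⟨n, hn⟩ := hPp ⟨x, hx⟩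
    exact central_mem_sylow S (hZ (hPZ hx)) (n := n) (congrArg Subtype.val hn)
  have hPn : (P.subgroupOf K).Normal := by
    constructor
    intro n hn g
    have h1 : g * n * g⁻¹ = n := by
      apply Subtype.ext
      show (g : Γ) * n * (g : Γ)⁻¹ = n
      have h2 : (g : Γ) * n = n * g := Subgroup.mem_center_iff.1 (hZ (hPZ hn)) g
      rw [h2, mul_inv_cancel_right]
    rwa [h1]
  obtain ⟨k, hk⟩ := IsPGroup.iff_card.1 hPp
  have hcardP : Nat.card (P.subgroupOf K) = p ^ k := by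
    rw [← hk]
    exact Nat.card_congr (Subgroup.subgroupOfEquivOfLe (hPZ.trans hZK)).toEquiv
  have hcop : Nat.Coprime (p ^ k) (P.relIndex K) :=
    Nat.Coprime.pow_left k (((Fact.out : p.Prime).coprime_iff_not_dvd).2 hPi)
  obtain ⟨H', hH'⟩ := Subgroup.exists_right_complement'_of_coprime (N := P.subgroupOf K)
    (by rw [hcardP]; exact hcop)
  have hcard : Nat.card H' = P.relIndex K := by
    have h1 := hH'.card_mul_card
    have h2 := Subgroup.card_mul_index (P.subgroupOf K)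
    rw [← h2] at h1
    exact Nat.eq_of_mul_eq_mul_left Nat.card_pos h1
  have hpow : ∀ x ∈ P, x ^ p ^ k = 1 := by
    intro x hx
    have h1 : (⟨x, hx⟩ : P) ^ Nat.card P = 1 := pow_card_eq_one'
    rw [hk] at h1
    exact congrArg Subtype.val h1
  have hdec : ∀ g ∈ K, ∃ x ∈ P, ∃ h, ∃ hh : h ∈ K, (⟨h, hh⟩ : K) ∈ H' ∧ g = x * h := by
    intro g hg
    obtain ⟨⟨⟨x, hx⟩, ⟨h, hh⟩⟩, hxh⟩ := hH'.surjective ⟨g, hg⟩
    refine ⟨x, hx, h, h.2, hh, ?_⟩
    exact (congrArg Subtype.val hxh).symm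
  have hcardK0 : ¬ p ∣ Nat.card (H'.map K.subtype) := by
    have h1 : Nat.card (H'.map K.subtype) = Nat.card H' :=
      (Nat.card_congr (H'.equivMapOfInjective K.subtype K.subtype_injective).toEquiv).symm
    rw [h1, hcard]
    exact hPi
  have hmem : ∀ g, g ∈ H'.map K.subtype ↔ g ∈ K ∧ ¬ p ∣ orderOf g := by
    intro g
    constructor
    · intro hg
      refine ⟨Subgroup.map_subtype_le _ hg, not_dvd_orderOf hcardK0 hg⟩
    · rintro ⟨hgK, hgp⟩
      obtain ⟨x, hx, h, hh, hhH, rfl⟩ := hdec g hgK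
      have hc : Commute x h := (Subgroup.mem_center_iff.1 (hZ (hPZ hx)) h).symm
      have h1 : h ^ Nat.card H' = 1 := by
        have h2 : (⟨⟨h, hh⟩, hhH⟩ : H') ^ Nat.card H' = 1 := pow_card_eq_one'
        exact congrArg (fun z : H' => ((z : K) : Γ)) h2
      have h2 : x ^ (orderOf (x * h) * Nat.card H') = 1 := by
        have h3 : (x * h) ^ (orderOf (x * h) * Nat.card H') = 1 := by
          rw [pow_mul, pow_orderOf_eq_one, one_pow]
        rwa [hc.mul_pow, mul_comm (orderOf _) (Nat.card H'), pow_mul h, h1, one_pow, mul_one,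
          mul_comm] at h3
      have h3 : x = 1 := by
        have h4 : Nat.Coprime (p ^ k) (orderOf (x * h) * Nat.card H') :=
          Nat.Coprime.pow_left k (((Fact.out : p.Prime).coprime_iff_not_dvd).2 (fun hd => by
            rcases (Nat.Prime.dvd_mul Fact.out).1 hd with h5 | h5
            · exact hgp h5
            · rw [hcard] at h5; exact hPi h5))
        have h5 := pow_gcd_eq_one.2 ⟨hpow x hx, h2⟩
        rwa [Nat.Coprime.gcd_eq_one h4, pow_one] at h5
      rw [h3, one_mul]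
      exact ⟨⟨h, hh⟩, hhH, rfl⟩
  refine ⟨H'.map K.subtype, ⟨fun n hn g => ?_⟩, hmem, hcardK0, ?_⟩
  · rw [hmem] at hn ⊢
    refine ⟨hKn.conj_mem n hn.1 g, ?_⟩
    have h1 : orderOf (g * n * g⁻¹) = orderOf n :=
      orderOf_injective (MulAut.conj g).toMonoidHom (MulAut.conj g).injective n
    rw [h1]
    exact hn.2
  · intro g hg
    obtain ⟨x, hx, h, hh, hhH, rfl⟩ := hdec g hg
    refine Subgroup.mul_mem _ (Subgroup.mem_sup_right (hPS hx)) (Subgroup.mem_sup_left ?_)
    exact ⟨⟨h, hh⟩, hhH, rfl⟩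

/-- complement of a Sylow subgroup in its normalizer -/
theorem exists_compl (S : Sylow p Γ) : ∃ H : Subgroup Γ,
    H ≤ Subgroup.normalizer ((S : Subgroup Γ) : Set Γ) ∧ (∀ h ∈ H, ¬ p ∣ orderOf h) ∧
      ∀ n ∈ Subgroup.normalizer ((S : Subgroup Γ) : Set Γ), ∃ s ∈ S, ∃ h ∈ H, n = s * h := by
  have hSN : (S : Subgroup Γ) ≤ Subgroup.normalizer ((S : Subgroup Γ) : Set Γ) :=
    Subgroup.le_normalizer
  obtain ⟨N, hN⟩ : ∃ N : Subgroup Γ, N = Subgroup.normalizer ((S : Subgroup Γ) : Set Γ) := ⟨_, rfl⟩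
  rw [← hN] at hSN ⊢
  have hn : ((S : Subgroup Γ).subgroupOf N).Normal := by
    rw [hN]; exact Subgroup.normal_in_normalizer
  obtain ⟨k, hk⟩ := IsPGroup.iff_card.1 S.isPGroup'
  have hcardS : Nat.card ((S : Subgroup Γ).subgroupOf N) = p ^ k := by
    rw [← hk]
    exact Nat.card_congr (Subgroup.subgroupOfEquivOfLe hSN).toEquiv
  have hi : ¬ p ∣ ((S : Subgroup Γ).subgroupOf N).index := by
    intro hd
    apply S.not_dvd_index
    have h1 : (S : Subgroup Γ).relIndex N * N.index = (S : Subgroup Γ).index :=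
      Subgroup.relIndex_mul_index hSN
    rw [← h1]
    exact hd.mul_right _
  obtain ⟨H', hH'⟩ := Subgroup.exists_right_complement'_of_coprime
    (N := (S : Subgroup Γ).subgroupOf N)
    (by rw [hcardS]
        exact Nat.Coprime.pow_left k (((Fact.out : p.Prime).coprime_iff_not_dvd).2 hi))
  have hcard : Nat.card H' = ((S : Subgroup Γ).subgroupOf N).index := by
    have h1 := hH'.card_mul_card
    have h2 := Subgroup.card_mul_index ((S : Subgroup Γ).subgroupOf N)
    rw [← h2] at h1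
    exact Nat.eq_of_mul_eq_mul_left Nat.card_pos h1
  refine ⟨H'.map N.subtype, Subgroup.map_subtype_le _, fun h hh => ?_, fun n hn => ?_⟩
  · refine not_dvd_orderOf (H := H'.map N.subtype) ?_ hh
    have h1 : Nat.card (H'.map N.subtype) = Nat.card H' :=
      (Nat.card_congr (H'.equivMapOfInjective N.subtype N.subtype_injective).toEquiv).symm
    rw [h1, hcard]
    exact hi
  · obtain ⟨⟨⟨x, hx⟩, ⟨h, hh⟩⟩, hxh⟩ := hH'.surjective ⟨n, hn⟩
    exact ⟨x, hx, h, ⟨h, hh, rfl⟩, (congrArg Subtype.val hxh).symm⟩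

/-- Frattini argument -/
theorem frattini (S : Sylow p Γ) (M : Subgroup Γ) [hM : M.Normal] (hSM : (S : Subgroup Γ) ≤ M)
    (g : Γ) : ∃ m ∈ M, ∃ n ∈ Subgroup.normalizer ((S : Subgroup Γ) : Set Γ), g = m * n := by
  have h1 : H672.RM.SylIn p (S : Subgroup Γ) M := by
    refine ⟨hSM, S.isPGroup', fun hd => S.not_dvd_index ?_⟩
    rw [← Subgroup.relIndex_mul_index hSM]
    exact hd.mul_right _
  have h2 : H672.RM.SylIn p ((S : Subgroup Γ).map (MulAut.conj g).toMonoidHom) M := by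
    have hMM : M.map (MulAut.conj g).toMonoidHom = M :=
      H672.RM.map_conj_eq_of_mem (by
        rw [Subgroup.normalizer_eq_top_iff.2 hM]; exact Subgroup.mem_top g)
    refine ⟨?_, S.isPGroup'.map _, fun hd => h1.ndvd ?_⟩
    · conv_rhs => rw [← hMM]
      exact Subgroup.map_mono hSM
    · rwa [← hMM, Subgroup.relIndex_map_map_of_injective _ _ (MulAut.conj g).injective] at hd
  obtain ⟨u, hu, hu'⟩ := h1.conj h2
  refine ⟨u, hu, u⁻¹ * g, ?_, by group⟩
  apply H672.RM.mem_normalizer_of_map_conj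
  have h3 : (MulAut.conj (u⁻¹ * g)).toMonoidHom =
      (MulAut.conj u⁻¹).toMonoidHom.comp (MulAut.conj g).toMonoidHom := by
    ext x; simp
  rw [h3, ← Subgroup.map_map, ← hu', Subgroup.map_map]
  convert Subgroup.map_id _
  ext x
  show u⁻¹ * (u * x * u⁻¹) * u⁻¹⁻¹ = x
  group

end Cfsg.Agent.H676.RM.Grp
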