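import Mathlib
import Cfsg.Agent.CharDeep.IrrEquiv
import Cfsg.Agent.CharDeep.ProjExt
import Cfsg.Agent.S4856
import Cfsg.Agent.H672.Ext
import Cfsg.Agent.S4444
import Cfsg.Agent.S0886
import Cfsg.Agent.CharactersDeep.CosetAverage
import Cfsg.Agent.OddOrderCharacters.PF9.CliffGen
set_option linter.all false

-- part: H676/RM/Pair
section
/-!
# The commutator pairing attached to an invariant irreducible representation

`i : N →* G` is an injective homomorphism, `ρ` an irreducible representation of `N` on `V`.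
`Tw i ρ x A` : `A ∈ GL(V)` carries `ρ n` to `ρ (x n x⁻¹)`.
`W i ρ x y w` : for such `A`, `B` over `x`, `y`, and `⁅x, y⁆ = i c`, one has `A B = w ρ(c) B A`.
The number `w` depends only on `x`, `y`; it is multiplicative in both variables and alternating.
-/

set_option autoImplicit false

namespace Cfsg.Agent.H676.RM.Pair

open Module Cfsg.Agent.CharDeep.IrrEquiv
open scoped commutatorElement

variable {N G V : Type*} [Group N] [Group G] [AddCommGroup V] [Module ℂ V]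

/-- `A` carries `ρ n` to `ρ (x n x⁻¹)`, and `x` normalises the image of `N`. -/
structure Tw (i : N →* G) (ρ : Representation ℂ N V) (x : G) (A : (V →ₗ[ℂ] V)ˣ) : Prop where
  nrm : ∀ n, ∃ n', i n' = x * i n * x⁻¹
  nrm' : ∀ n, ∃ n', i n' = x⁻¹ * i n * x
  int : ∀ n n', i n' = x * i n * x⁻¹ → (A : V →ₗ[ℂ] V) * ρ n = ρ n' * A

theorem Tw.one (i : N →* G) (hi : Function.Injective i) (ρ : Representation ℂ N V) :
    Tw i ρ 1 1 where
  nrm n := ⟨n, by simp⟩
  nrm' n := ⟨n, by simp⟩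
  int n n' h := by
    have : n' = n := hi (by simpa using h)
    rw [this, Units.val_one, one_mul, mul_one]

theorem Tw.mul {i : N →* G} {ρ : Representation ℂ N V} {x y : G} {A B : (V →ₗ[ℂ] V)ˣ}
    (hA : Tw i ρ x A) (hB : Tw i ρ y B) : Tw i ρ (x * y) (A * B) where
  nrm n := by
    obtain ⟨n', hn'⟩ := hB.nrm n
    obtain ⟨n'', hn''⟩ := hA.nrm n'
    exact ⟨n'', by rw [hn'', hn']; group⟩
  nrm' n := by
    obtain ⟨n', hn'⟩ := hA.nrm' n
    obtain ⟨n'', hn''⟩ := hB.nrm' n'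
    exact ⟨n'', by rw [hn'', hn']; group⟩
  int n n'' h := by
    obtain ⟨n', hn'⟩ := hB.nrm n
    rw [Units.val_mul, mul_assoc, hB.int n n' hn', ← mul_assoc,
      hA.int n' n'' (by rw [h, hn']; group), mul_assoc]

theorem Tw.inv {i : N →* G} {ρ : Representation ℂ N V} {x : G} {A : (V →ₗ[ℂ] V)ˣ}
    (hA : Tw i ρ x A) : Tw i ρ x⁻¹ A⁻¹ where
  nrm n := by simpa using hA.nrm' n
  nrm' n := by simpa using hA.nrm n
  int n n' h := by
    have h1 := hA.int n' n (by rw [h]; group)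
    have h2 : ((A⁻¹ : (V →ₗ[ℂ] V)ˣ) : V →ₗ[ℂ] V) * (A : V →ₗ[ℂ] V) = 1 := A.inv_mul
    have h3 : (A : V →ₗ[ℂ] V) * ((A⁻¹ : (V →ₗ[ℂ] V)ˣ) : V →ₗ[ℂ] V) = 1 := A.mul_inv
    calc ((A⁻¹ : (V →ₗ[ℂ] V)ˣ) : V →ₗ[ℂ] V) * ρ n
        = ((A⁻¹ : (V →ₗ[ℂ] V)ˣ) : V →ₗ[ℂ] V) * (ρ n * (A : V →ₗ[ℂ] V)) *
          ((A⁻¹ : (V →ₗ[ℂ] V)ˣ) : V →ₗ[ℂ] V) := by rw [mul_assoc, mul_assoc, h3, mul_one]
      _ = ((A⁻¹ : (V →ₗ[ℂ] V)ˣ) : V →ₗ[ℂ] V) * ((A : V →ₗ[ℂ] V) * ρ n') *
          ((A⁻¹ : (V →ₗ[ℂ] V)ˣ) : V →ₗ[ℂ] V) := by rw [h1]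
      _ = ρ n' * ((A⁻¹ : (V →ₗ[ℂ] V)ˣ) : V →ₗ[ℂ] V) := by
          rw [← mul_assoc ((A⁻¹ : (V →ₗ[ℂ] V)ˣ) : V →ₗ[ℂ] V), h2, one_mul]

/-- `ρ n` as a unit. -/
def un (ρ : Representation ℂ N V) (n : N) : (V →ₗ[ℂ] V)ˣ := MonoidHom.toHomUnits ρ n

theorem un_val (ρ : Representation ℂ N V) (n : N) : ((un ρ n : (V →ₗ[ℂ] V)ˣ) : V →ₗ[ℂ] V) = ρ n :=
  rfl

theorem Tw.of_mem (i : N →* G) (hi : Function.Injective i) (ρ : Representation ℂ N V) (a : N) :
    Tw i ρ (i a) (un ρ a) where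
  nrm n := ⟨a * n * a⁻¹, by simp⟩
  nrm' n := ⟨a⁻¹ * n * a, by simp⟩
  int n n' h := by
    have : n' = a * n * a⁻¹ := hi (by rw [h]; simp)
    rw [this, un_val, ← map_mul, ← map_mul]
    congr 1
    group

/-- Intertwiners are unique up to scalars. -/
theorem Tw.unique [FiniteDimensional ℂ V] {i : N →* G} {ρ : Representation ℂ N V}
    (hρ : ρ.IsIrreducible) {x : G} {A B : (V →ₗ[ℂ] V)ˣ} (hA : Tw i ρ x A) (hB : Tw i ρ x B) :
    ∃ c : ℂ, (B : V →ₗ[ℂ] V) = c • (A : V →ₗ[ℂ] V) := by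
  have h2 : (A : V →ₗ[ℂ] V) * ((A⁻¹ : (V →ₗ[ℂ] V)ˣ) : V →ₗ[ℂ] V) = 1 := A.mul_inv
  obtain ⟨c, hc⟩ := exists_smul_of_commute ρ hρ
    (((A⁻¹ : (V →ₗ[ℂ] V)ˣ) : V →ₗ[ℂ] V) * (B : V →ₗ[ℂ] V)) (fun n => by
      obtain ⟨n', hn'⟩ := hB.nrm n
      have h1 := hA.inv.int n' n (by rw [hn']; group)
      rw [mul_assoc, hB.int n n' hn', ← mul_assoc, h1, mul_assoc])
  refine ⟨c, ?_⟩
  calc (B : V →ₗ[ℂ] V) = (A : V →ₗ[ℂ] V) *
        (((A⁻¹ : (V →ₗ[ℂ] V)ˣ) : V →ₗ[ℂ] V) * (B : V →ₗ[ℂ] V)) := by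
          rw [← mul_assoc, h2, one_mul]
    _ = c • (A : V →ₗ[ℂ] V) := by rw [hc, mul_smul_comm, mul_one]

/-- The pairing. -/
def W (i : N →* G) (ρ : Representation ℂ N V) (x y : G) (w : ℂ) : Prop :=
  ∃ A B : (V →ₗ[ℂ] V)ˣ, Tw i ρ x A ∧ Tw i ρ y B ∧ ∃ c, i c = ⁅x, y⁆ ∧
    (A : V →ₗ[ℂ] V) * (B : V →ₗ[ℂ] V) = w • (ρ c * ((B : V →ₗ[ℂ] V) * (A : V →ₗ[ℂ] V)))

theorem W.eqn [FiniteDimensional ℂ V] {i : N →* G} (hi : Function.Injective i)
    {ρ : Representation ℂ N V} (hρ : ρ.IsIrreducible) {x y : G} {w : ℂ} (h : W i ρ x y w)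
    {A B : (V →ₗ[ℂ] V)ˣ} (hA : Tw i ρ x A) (hB : Tw i ρ y B) {c : N} (hc : i c = ⁅x, y⁆) :
    (A : V →ₗ[ℂ] V) * (B : V →ₗ[ℂ] V) = w • (ρ c * ((B : V →ₗ[ℂ] V) * (A : V →ₗ[ℂ] V))) := by
  obtain ⟨A', B', hA', hB', c', hc', h⟩ := h
  obtain ⟨a, ha⟩ := hA'.unique hρ hA
  obtain ⟨b, hb⟩ := hB'.unique hρ hB
  have : c = c' := hi (hc.trans hc'.symm)
  subst this
  rw [ha, hb]
  simp only [smul_mul_assoc, mul_smul_comm, h]
  rw [smul_comm w a, smul_comm w b, smul_comm b a]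

theorem W.unique [FiniteDimensional ℂ V] {i : N →* G} (hi : Function.Injective i)
    {ρ : Representation ℂ N V} (hρ : ρ.IsIrreducible) {x y : G} {w w' : ℂ} (h : W i ρ x y w)
    (h' : W i ρ x y w') : w = w' := by
  have hV : Nontrivial V := ((Cfsg.Agent.CharDeep.LinearChar.isIrreducible_iff ρ).1 hρ).1
  obtain ⟨A, B, hA, hB, c, hc, h1⟩ := h
  have h2 := h'.eqn hi hρ hA hB hc
  rw [h1] at h2
  have hu : IsUnit (ρ c * ((B : V →ₗ[ℂ] V) * (A : V →ₗ[ℂ] V))) :=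
    ⟨un ρ c * (B * A), rfl⟩
  obtain ⟨u, hu⟩ := hu
  rw [← hu] at h2
  have h3 : (w - w') • (u : V →ₗ[ℂ] V) = 0 := by rw [sub_smul, h2, sub_self]
  rcases smul_eq_zero.1 h3 with h4 | h4
  · exact sub_eq_zero.1 h4
  · exact absurd h4 u.ne_zero

theorem W.ne_zero [FiniteDimensional ℂ V] {i : N →* G}
    {ρ : Representation ℂ N V} (hρ : ρ.IsIrreducible) {x y : G} {w : ℂ} (h : W i ρ x y w) :
    w ≠ 0 := by
  have hV : Nontrivial V := ((Cfsg.Agent.CharDeep.LinearChar.isIrreducible_iff ρ).1 hρ).1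
  rintro rfl
  obtain ⟨A, B, hA, hB, c, hc, h1⟩ := h
  rw [zero_smul] at h1
  exact (A * B).ne_zero h1

theorem exists_W [FiniteDimensional ℂ V] {i : N →* G} (hi : Function.Injective i)
    {ρ : Representation ℂ N V} (hρ : ρ.IsIrreducible) {x y : G} {A B : (V →ₗ[ℂ] V)ˣ}
    (hA : Tw i ρ x A) (hB : Tw i ρ y B) {c : N} (hc : i c = ⁅x, y⁆) : ∃ w, W i ρ x y w := by
  have h1 : Tw i ρ (x * y) (A * B) := hA.mul hB
  have h2 : Tw i ρ (x * y) (un ρ c * (B * A)) := by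
    have := (Tw.of_mem i hi ρ c).mul (hB.mul hA)
    rwa [hc, show ⁅x, y⁆ * (y * x) = x * y by rw [commutatorElement_def]; group] at this
  obtain ⟨w, hw⟩ := h2.unique hρ h1
  exact ⟨w, A, B, hA, hB, c, hc, hw⟩

/-- multiplicativity in the first variable -/
theorem W.mul_left [FiniteDimensional ℂ V] {i : N →* G} (hi : Function.Injective i)
    {ρ : Representation ℂ N V} (hρ : ρ.IsIrreducible) {x x' y : G} {w w' : ℂ} (h : W i ρ x y w)
    (h' : W i ρ x' y w') : W i ρ (x * x') y (w * w') := by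
  obtain ⟨A, B, hA, hB, c, hc, h1⟩ := h
  obtain ⟨A', B', hA', hB', c', hc', h2⟩ := h'
  have h2 := (show W i ρ x' y w' from ⟨A', B', hA', hB', c', hc', h2⟩).eqn hi hρ hA' hB hc'
  obtain ⟨d, hd⟩ := hA.nrm c'
  refine ⟨A * A', B, hA.mul hA', hB, d * c, ?_, ?_⟩
  · rw [map_mul, hd, hc, hc', commutatorElement_def, commutatorElement_def, commutatorElement_def]
    group
  · have h3 := hA.int c' d hd
    calc ((A * A' : (V →ₗ[ℂ] V)ˣ) : V →ₗ[ℂ] V) * (B : V →ₗ[ℂ] V)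
        = (A : V →ₗ[ℂ] V) * ((A' : V →ₗ[ℂ] V) * (B : V →ₗ[ℂ] V)) := by
          rw [Units.val_mul, mul_assoc]
      _ = w' • ((A : V →ₗ[ℂ] V) * ρ c' * ((B : V →ₗ[ℂ] V) * (A' : V →ₗ[ℂ] V))) := by
          rw [h2, mul_smul_comm, mul_assoc]
      _ = w' • (ρ d * ((A : V →ₗ[ℂ] V) * (B : V →ₗ[ℂ] V)) * (A' : V →ₗ[ℂ] V)) := by
          rw [h3]; simp only [mul_assoc]
      _ = (w * w') • (ρ (d * c) * ((B : V →ₗ[ℂ] V) *
            ((A * A' : (V →ₗ[ℂ] V)ˣ) : V →ₗ[ℂ] V))) := by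
          rw [h1, Units.val_mul, map_mul]
          simp only [mul_smul_comm, smul_mul_assoc, mul_assoc, smul_smul]
          rw [mul_comm w' w]

/-- antisymmetry -/
theorem W.symm [FiniteDimensional ℂ V] {i : N →* G}
    {ρ : Representation ℂ N V} (hρ : ρ.IsIrreducible) {x y : G} {w : ℂ}
    (h : W i ρ x y w) : W i ρ y x w⁻¹ := by
  have hw := h.ne_zero hρ
  obtain ⟨A, B, hA, hB, c, hc, h1⟩ := h
  refine ⟨B, A, hB, hA, c⁻¹, by rw [map_inv, hc, commutatorElement_inv], ?_⟩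
  rw [h1, mul_smul_comm, smul_smul, inv_mul_cancel₀ hw, one_smul, ← mul_assoc, ← map_mul,
    inv_mul_cancel, map_one, one_mul]

theorem W.mul_right [FiniteDimensional ℂ V] {i : N →* G} (hi : Function.Injective i)
    {ρ : Representation ℂ N V} (hρ : ρ.IsIrreducible) {x y y' : G} {w w' : ℂ} (h : W i ρ x y w)
    (h' : W i ρ x y' w') : W i ρ x (y * y') (w * w') := by
  have := ((h.symm hρ).mul_left hi hρ (h'.symm hρ)).symm hρ
  rwa [← mul_inv, inv_inv] at this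

theorem W.self {i : N →* G} {ρ : Representation ℂ N V} {x : G}
    {A : (V →ₗ[ℂ] V)ˣ} (hA : Tw i ρ x A) : W i ρ x x 1 :=
  ⟨A, A, hA, hA, 1, by rw [map_one, commutatorElement_self], by simp⟩

/-- the pairing is trivial on the image of `N` -/
theorem W.of_mem [FiniteDimensional ℂ V] {i : N →* G} (hi : Function.Injective i)
    {ρ : Representation ℂ N V} (a : N) {y : G} {B : (V →ₗ[ℂ] V)ˣ} (hB : Tw i ρ y B) :
    W i ρ (i a) y 1 := by
  obtain ⟨d, hd⟩ := hB.nrm a⁻¹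
  refine ⟨un ρ a, B, Tw.of_mem i hi ρ a, hB, a * d, ?_, ?_⟩
  · rw [map_mul, hd, commutatorElement_def, map_inv]; group
  · have h1 := hB.int a⁻¹ d hd
    rw [un_val, one_smul, map_mul, mul_assoc]
    congr 1
    rw [← mul_assoc, ← h1, mul_assoc, ← map_mul, inv_mul_cancel, map_one, mul_one]

/-- change of the ambient group -/
theorem Tw.comp_iff {G' : Type*} [Group G'] {i : N →* G} {j : G →* G'} (hj : Function.Injective j)
    {ρ : Representation ℂ N V} {x : G} {A : (V →ₗ[ℂ] V)ˣ} :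
    Tw (j.comp i) ρ (j x) A ↔ Tw i ρ x A := by
  have e1 : ∀ n n', ((j.comp i) n' = j x * (j.comp i) n * (j x)⁻¹) ↔ i n' = x * i n * x⁻¹ := by
    intro n n'
    rw [MonoidHom.comp_apply, MonoidHom.comp_apply, ← map_inv, ← map_mul, ← map_mul]
    exact hj.eq_iff
  have e2 : ∀ n n', ((j.comp i) n' = (j x)⁻¹ * (j.comp i) n * (j x)) ↔ i n' = x⁻¹ * i n * x := by
    intro n n'
    rw [MonoidHom.comp_apply, MonoidHom.comp_apply, ← map_inv, ← map_mul, ← map_mul]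
    exact hj.eq_iff
  constructor
  · intro h
    refine ⟨fun n => ?_, fun n => ?_, fun n n' hn => h.int n n' ((e1 n n').2 hn)⟩
    · obtain ⟨n', hn'⟩ := h.nrm n
      exact ⟨n', (e1 n n').1 hn'⟩
    · obtain ⟨n', hn'⟩ := h.nrm' n
      exact ⟨n', (e2 n n').1 hn'⟩
  · intro h
    refine ⟨fun n => ?_, fun n => ?_, fun n n' hn => h.int n n' ((e1 n n').1 hn)⟩
    · obtain ⟨n', hn'⟩ := h.nrm n
      exact ⟨n', (e1 n n').2 hn'⟩
    · obtain ⟨n', hn'⟩ := h.nrm' n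
      exact ⟨n', (e2 n n').2 hn'⟩

theorem W.comp_iff {G' : Type*} [Group G'] {i : N →* G} {j : G →* G'} (hj : Function.Injective j)
    {ρ : Representation ℂ N V} {x y : G} {w : ℂ} :
    W (j.comp i) ρ (j x) (j y) w ↔ W i ρ x y w := by
  unfold W
  simp only [Tw.comp_iff hj]
  have e : ∀ c, (j.comp i) c = ⁅j x, j y⁆ ↔ i c = ⁅x, y⁆ := by
    intro c
    rw [MonoidHom.comp_apply, ← map_commutatorElement]
    exact hj.eq_iff
  simp only [e]

/-- restriction to a smaller group on the same space -/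
theorem Tw.restrict {M : Type*} [Group M] {i : N →* G} {m : M →* N} {ρ : Representation ℂ N V}
    {x : G} {A : (V →ₗ[ℂ] V)ˣ} (h : Tw i ρ x A)
    (h1 : ∀ a, ∃ b, i (m b) = x * i (m a) * x⁻¹) (h2 : ∀ a, ∃ b, i (m b) = x⁻¹ * i (m a) * x) :
    Tw (i.comp m) (ρ.comp m) x A :=
  ⟨h1, h2, fun a b hab => h.int (m a) (m b) hab⟩

theorem W.restrict [FiniteDimensional ℂ V] {M : Type*} [Group M] {i : N →* G} {m : M →* N}
    (hi : Function.Injective i) {ρ : Representation ℂ N V} (hρ : ρ.IsIrreducible) {x y : G} {w : ℂ}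
    (h : W i ρ x y w)
    (h1 : ∀ a, ∃ b, i (m b) = x * i (m a) * x⁻¹) (h2 : ∀ a, ∃ b, i (m b) = x⁻¹ * i (m a) * x)
    (h1' : ∀ a, ∃ b, i (m b) = y * i (m a) * y⁻¹) (h2' : ∀ a, ∃ b, i (m b) = y⁻¹ * i (m a) * y)
    (hc : ∃ c, i (m c) = ⁅x, y⁆) : W (i.comp m) (ρ.comp m) x y w := by
  obtain ⟨A, B, hA, hB, -⟩ := id h
  obtain ⟨c, hc⟩ := hc
  exact ⟨A, B, hA.restrict h1 h2, hB.restrict h1' h2', c, hc, h.eqn hi hρ hA hB hc⟩

end Cfsg.Agent.H676.RM.Pair
end

-- part: H676/RM/PairExt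
section
/-!
# The pairing and extensions

* `exists_Tw` : intertwiners exist for elements fixing the character.
* `ext_rel` : if `σ` is a representation of `K ≥ N` which is irreducible on `N`, and `x` normalises `N`
  and `K` and fixes the character of `N`, then `x` multiplies the character of `σ` with a linear
  character `c` of `K / N`, and the pairing of `x` and `k ∈ K` is `c(k)⁻¹`.
-/

set_option autoImplicit false

namespace Cfsg.Agent.H676.RM.Pair

open Module Cfsg.Agent.CharDeep.IrrEquiv Cfsg.Agent.CharDeep.ProjExt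
open scoped commutatorElement

variable {N G V : Type*} [Group N] [Group G] [AddCommGroup V] [Module ℂ V]

/-- conjugation by `x` as an endomorphism of `N` -/
theorem exists_conjHom (i : N →* G) (hi : Function.Injective i) (x : G)
    (hx : ∀ n, ∃ n', i n' = x * i n * x⁻¹) :
    ∃ α : N →* N, Function.Injective α ∧ ∀ n, i (α n) = x * i n * x⁻¹ := by
  choose f hf using hx
  refine ⟨{ toFun := f, map_one' := ?_, map_mul' := ?_ }, ?_, hf⟩
  · apply hi
    rw [hf, map_one]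
    group
  · intro a b
    apply hi
    rw [hf, map_mul, map_mul, hf, hf]
    group
  · intro a b hab
    apply hi
    have h1 := hf a
    have h2 := hf b
    have h3 : f a = f b := hab
    rw [h3, h2] at h1
    exact (mul_left_cancel (mul_right_cancel h1)).symm

theorem exists_Tw [Finite N] [FiniteDimensional ℂ V] {i : N →* G} (hi : Function.Injective i)
    {ρ : Representation ℂ N V} (hρ : ρ.IsIrreducible) (x : G)
    (hx : ∀ n, ∃ n', i n' = x * i n * x⁻¹)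
    (hinv : ∀ n n', i n' = x * i n * x⁻¹ → ρ.character n' = ρ.character n) :
    ∃ A : (V →ₗ[ℂ] V)ˣ, Tw i ρ x A := by
  obtain ⟨α, hα, hαi⟩ := exists_conjHom i hi x hx
  have hsurj : Function.Surjective α := Finite.injective_iff_surjective.1 hα
  let σ : Representation ℂ N V := ρ.comp α
  have hchar : ρ.character = σ.character := by
    ext n
    exact (hinv n (α n) (hαi n)).symm
  obtain ⟨φ⟩ := nonempty_equiv ρ σ hρ hchar
  let T : (V →ₗ[ℂ] V)ˣ := LinearMap.GeneralLinearGroup.ofLinearEquiv φ.toLinearEquiv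
  have hT : ∀ n : N, (T : V →ₗ[ℂ] V) * ρ n = ρ (α n) * T := fun n => φ.isIntertwining' n
  refine ⟨T, hx, fun n => ?_, fun n n' hn => ?_⟩
  · obtain ⟨m, rfl⟩ := hsurj n
    refine ⟨m, ?_⟩
    rw [hαi]
    group
  · have : n' = α n := hi (by rw [hn, hαi])
    rw [this, hT]

theorem ext_rel [FiniteDimensional ℂ V] {K : Type*} [Group K] (m : N →* K) (ι : K →* G)
    (hι : Function.Injective ι) (hn : m.range.Normal) (σ : Representation ℂ K V)
    (hσ : Representation.IsIrreducible (σ.comp m)) {x : G} {A : (V →ₗ[ℂ] V)ˣ}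
    (hA : Tw (ι.comp m) (σ.comp m) x A) (hx : ∀ k, ∃ k', ι k' = x * ι k * x⁻¹) :
    ∃ c : K →* ℂˣ, (∀ n, c (m n) = 1) ∧
      (∀ k k', ι k' = x * ι k * x⁻¹ → σ.character k' = (c k : ℂ) * σ.character k) ∧
      ∀ k0, (∃ c0 : N, ι (m c0) = ⁅x, ι k0⁆) →
        W (ι.comp m) (σ.comp m) x (ι k0) ((c k0 : ℂ)⁻¹) := by
  obtain ⟨α, hα, hαι⟩ := exists_conjHom ι hι x hx
  have hAi : ((A⁻¹ : (V →ₗ[ℂ] V)ˣ) : V →ₗ[ℂ] V) * (A : V →ₗ[ℂ] V) = 1 := A.inv_mul
  have hAi' : (A : V →ₗ[ℂ] V) * ((A⁻¹ : (V →ₗ[ℂ] V)ˣ) : V →ₗ[ℂ] V) = 1 := A.mul_inv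
  let R' : Representation ℂ K V :=
    { toFun := fun k => ((A⁻¹ : (V →ₗ[ℂ] V)ˣ) : V →ₗ[ℂ] V) * σ (α k) * (A : V →ₗ[ℂ] V)
      map_one' := by rw [map_one, map_one, mul_one, hAi]
      map_mul' := by
        intro a b
        rw [map_mul, map_mul]
        calc ((A⁻¹ : (V →ₗ[ℂ] V)ˣ) : V →ₗ[ℂ] V) * (σ (α a) * σ (α b)) * (A : V →ₗ[ℂ] V)
            = ((A⁻¹ : (V →ₗ[ℂ] V)ˣ) : V →ₗ[ℂ] V) * σ (α a) *
              ((A : V →ₗ[ℂ] V) * ((A⁻¹ : (V →ₗ[ℂ] V)ˣ) : V →ₗ[ℂ] V)) * σ (α b) *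
                (A : V →ₗ[ℂ] V) := by rw [hAi', mul_one]; simp only [mul_assoc]
          _ = _ := by simp only [mul_assoc] }
  have hR' : ∀ k, R' k = ((A⁻¹ : (V →ₗ[ℂ] V)ˣ) : V →ₗ[ℂ] V) * σ (α k) * (A : V →ₗ[ℂ] V) :=
    fun k => rfl
  -- the restriction to the range of m
  let ρ0 : Representation ℂ m.range V := σ.comp m.range.subtype
  have hρ0 : ρ0.IsIrreducible := by
    apply Cfsg.Agent.CharDeep.LinearChar.isIrreducible_of_comp m.rangeRestrict
    exact hσ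
  have h1 : ∀ n : m.range, σ n = ρ0 n := fun n => rfl
  have h2 : ∀ n : m.range, R' n = ρ0 n := by
    rintro ⟨_, n, rfl⟩
    rw [hR']
    show _ = σ (m n)
    obtain ⟨n', hn'⟩ := hA.nrm n
    have h3 := hA.int n n' hn'
    have h4 : α (m n) = m n' := by
      apply hι
      rw [hαι]
      exact hn'.symm
    show ((A⁻¹ : (V →ₗ[ℂ] V)ˣ) : V →ₗ[ℂ] V) * σ (α (m n)) * (A : V →ₗ[ℂ] V) = σ (m n)
    have h5 : (A : V →ₗ[ℂ] V) * σ (m n) = σ (m n') * A := h3
    rw [h4, mul_assoc, ← h5, ← mul_assoc, hAi, one_mul]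
  obtain ⟨c, hc1, hc2⟩ := exists_hom_of_extensions ρ0 hρ0 σ R' h1 h2
  have h6 : ∀ k k', ι k' = x * ι k * x⁻¹ → k' = α k := by
    intro k k' h
    apply hι
    rw [h, hαι]
  have h7 : ∀ k, (A : V →ₗ[ℂ] V) * σ k = (c k : ℂ)⁻¹ • (σ (α k) * A) := by
    intro k
    have h8 := hc2 k
    rw [hR'] at h8
    have h9 : σ (α k) * (A : V →ₗ[ℂ] V) = (c k : ℂ) • ((A : V →ₗ[ℂ] V) * σ k) := by
      rw [← mul_smul_comm, ← h8, mul_assoc, ← mul_assoc, hAi', one_mul]
    rw [h9, smul_smul, inv_mul_cancel₀ (c k).ne_zero, one_smul]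
  refine ⟨c, fun n => hc1 _ ⟨n, rfl⟩, ?_, ?_⟩
  · intro k k' h
    rw [h6 k k' h]
    have h8 := hc2 k
    rw [hR'] at h8
    have h9 := congrArg (LinearMap.trace ℂ V) h8
    rw [map_smul, smul_eq_mul, mul_assoc, LinearMap.trace_mul_comm, mul_assoc, hAi', mul_one] at h9
    exact h9
  · rintro k0 ⟨c0, hc0⟩
    have hB : Tw (ι.comp m) (σ.comp m) (ι k0) (un σ k0) := by
      refine ⟨fun n => ?_, fun n => ?_, fun n n' h => ?_⟩
      · obtain ⟨n', hn'⟩ := hn.conj_mem (m n) ⟨n, rfl⟩ k0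
        exact ⟨n', by rw [MonoidHom.comp_apply, hn']; simp⟩
      · obtain ⟨n', hn'⟩ := hn.conj_mem (m n) ⟨n, rfl⟩ k0⁻¹
        exact ⟨n', by rw [MonoidHom.comp_apply, hn']; simp⟩
      · have : m n' = k0 * m n * k0⁻¹ := by
          apply hι
          rw [MonoidHom.comp_apply, MonoidHom.comp_apply] at h
          rw [h]; simp
        show σ k0 * σ (m n) = σ (m n') * σ k0
        rw [this, ← map_mul, ← map_mul]
        congr 1; group
    refine ⟨A, un σ k0, hA, hB, c0, hc0, ?_⟩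
    rw [un_val, h7]
    congr 1
    have h8 : α k0 = m c0 * k0 := by
      apply hι
      rw [hαι, map_mul, hc0, commutatorElement_def]
      group
    rw [h8, map_mul, mul_assoc]
    rfl

end Cfsg.Agent.H676.RM.Pair
end

-- part: H676/RM/Avg
section
/-!
# Averages over an irreducible representation and over cosets

* `avg`, `avg2` : Schur orthogonality in operator form.
* `sum_comm_coset` : for intertwiners over `x`, `y` with pairing `w`, the sum over `a`, `b` in `N` of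
  `conj θ(⁅a x, b y⁆)` is `w |N|² / θ(1)`.
-/

set_option autoImplicit false

namespace Cfsg.Agent.H676.RM.Avg

open Module Cfsg.Agent.CharDeep.IrrEquiv Cfsg.Agent.H676.RM.Pair
open scoped commutatorElement ComplexConjugate

variable {N G V : Type*} [Group N] [Group G] [AddCommGroup V] [Module ℂ V] [FiniteDimensional ℂ V]

theorem avg [Fintype N] {ρ : Representation ℂ N V} (hρ : ρ.IsIrreducible) (X : V →ₗ[ℂ] V) :
    ∑ b : N, ρ b * X * ρ b⁻¹ =
      ((Nat.card N : ℂ) * (finrank ℂ V : ℂ)⁻¹ * LinearMap.trace ℂ V X) • (1 : V →ₗ[ℂ] V) := by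
  classical
  have hV : Nontrivial V := ((Cfsg.Agent.CharDeep.LinearChar.isIrreducible_iff ρ).1 hρ).1
  have hn : (finrank ℂ V : ℂ) ≠ 0 := by
    exact_mod_cast (finrank_pos (R := ℂ) (M := V)).ne'
  obtain ⟨c, hc⟩ := exists_smul_of_commute ρ hρ (∑ b : N, ρ b * X * ρ b⁻¹) (fun g => by
    rw [Finset.sum_mul, Finset.mul_sum]
    refine Fintype.sum_equiv (Equiv.mulLeft g⁻¹) _ _ fun b => ?_
    rw [Equiv.coe_mulLeft, map_mul, mul_inv_rev, map_mul, inv_inv]
    rw [← mul_assoc, ← mul_assoc, ← mul_assoc, ← mul_assoc, ← map_mul, mul_inv_cancel, map_one,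
      one_mul])
  have h1 := congrArg (LinearMap.trace ℂ V) hc
  rw [map_sum, map_smul, LinearMap.trace_one, smul_eq_mul] at h1
  have h2 : ∀ b : N, LinearMap.trace ℂ V (ρ b * X * ρ b⁻¹) = LinearMap.trace ℂ V X := by
    intro b
    rw [LinearMap.trace_mul_comm, ← mul_assoc, ← map_mul, inv_mul_cancel, map_one, one_mul]
  rw [Finset.sum_congr rfl (fun b _ => h2 b), Finset.sum_const, Finset.card_univ, nsmul_eq_mul,
    ← Nat.card_eq_fintype_card] at h1
  rw [hc]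
  congr 1
  field_simp
  exact h1.symm

theorem avg2 [Fintype N] {ρ : Representation ℂ N V} (hρ : ρ.IsIrreducible) (A B : V →ₗ[ℂ] V) :
    ∑ a : N, LinearMap.trace ℂ V (ρ a * A) * LinearMap.trace ℂ V (B * ρ a⁻¹) =
      (Nat.card N : ℂ) * (finrank ℂ V : ℂ)⁻¹ * LinearMap.trace ℂ V (A * B) := by
  classical
  let b := Module.finBasis ℂ V
  have htr : ∀ P : V →ₗ[ℂ] V, LinearMap.trace ℂ V P = ∑ i, b.repr (P (b i)) i := by
    intro P
    rw [LinearMap.trace_eq_matrix_trace ℂ b P]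
    simp only [Matrix.trace, Matrix.diag, LinearMap.toMatrix_apply]
  let X : Fin (finrank ℂ V) → Fin (finrank ℂ V) → (V →ₗ[ℂ] V) :=
    fun i j => (b.coord j).smulRight (b i)
  have hX : ∀ i j v, X i j v = b.repr v j • b i := fun i j v => rfl
  have h1 : ∀ (a : N) (i j), b.repr ((ρ a * A) (b i)) i * b.repr ((B * ρ a⁻¹) (b j)) j =
      b.repr ((ρ a * (A * X i j * B) * ρ a⁻¹) (b j)) i := by
    intro a i j
    have : (ρ a * (A * X i j * B) * ρ a⁻¹) (b j) = (ρ a * A) (X i j ((B * ρ a⁻¹) (b j))) := rfl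
    rw [this, hX, map_smul, map_smul, Finsupp.smul_apply, smul_eq_mul, mul_comm]
  have h2 : ∀ a : N, LinearMap.trace ℂ V (ρ a * A) * LinearMap.trace ℂ V (B * ρ a⁻¹) =
      ∑ i, ∑ j, b.repr ((ρ a * (A * X i j * B) * ρ a⁻¹) (b j)) i := by
    intro a
    rw [htr, htr, Finset.sum_mul_sum]
    exact Finset.sum_congr rfl fun i _ => Finset.sum_congr rfl fun j _ => h1 a i j
  rw [Finset.sum_congr rfl (fun a _ => h2 a), Finset.sum_comm]
  have h3 : ∀ i, ∑ a : N, ∑ j, b.repr ((ρ a * (A * X i j * B) * ρ a⁻¹) (b j)) i =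
      (Nat.card N : ℂ) * (finrank ℂ V : ℂ)⁻¹ * LinearMap.trace ℂ V (A * X i i * B) := by
    intro i
    rw [Finset.sum_comm, Finset.sum_eq_single i]
    · have h4 : ∑ a : N, b.repr ((ρ a * (A * X i i * B) * ρ a⁻¹) (b i)) i =
          b.repr ((∑ a : N, ρ a * (A * X i i * B) * ρ a⁻¹) (b i)) i := by
        rw [LinearMap.sum_apply, map_sum, Finsupp.finsetSum_apply]
      rw [h4, avg hρ]
      simp
    · intro j _ hj
      have h4 : ∑ a : N, b.repr ((ρ a * (A * X i j * B) * ρ a⁻¹) (b j)) i =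
          b.repr ((∑ a : N, ρ a * (A * X i j * B) * ρ a⁻¹) (b j)) i := by
        rw [LinearMap.sum_apply, map_sum, Finsupp.finsetSum_apply]
      rw [h4, avg hρ]
      simp [hj]
    · intro h; exact absurd (Finset.mem_univ _) h
  rw [Finset.sum_congr rfl (fun i _ => h3 i), ← Finset.mul_sum]
  congr 1
  have h5 : ∑ i, X i i = (1 : V →ₗ[ℂ] V) := by
    ext v
    rw [LinearMap.sum_apply]
    simp only [hX]
    exact b.sum_repr v
  rw [← map_sum]
  congr 1
  rw [← Finset.sum_mul, ← Finset.mul_sum, h5, mul_one]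

/-- The sum over two cosets of the conjugate character values at the commutators. -/
theorem sum_comm_coset [Fintype N] {i : N →* G} (hi : Function.Injective i)
    {ρ : Representation ℂ N V} (hρ : ρ.IsIrreducible) {x y : G} {w : ℂ} (h : W i ρ x y w)
    (C : N → N → N) (hC : ∀ a b, i (C a b) = ⁅i a * x, i b * y⁆) :
    (∑ a : N, ∑ b : N, ρ.character (C a b)⁻¹) * ρ.character 1 = w * (Nat.card N : ℂ) ^ 2 := by
  classical
  have hV : Nontrivial V := ((Cfsg.Agent.CharDeep.LinearChar.isIrreducible_iff ρ).1 hρ).1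
  have hn : (finrank ℂ V : ℂ) ≠ 0 := by
    exact_mod_cast (finrank_pos (R := ℂ) (M := V)).ne'
  obtain ⟨A, B, hA, hB, -⟩ := id h
  have hAi : ((A⁻¹ : (V →ₗ[ℂ] V)ˣ) : V →ₗ[ℂ] V) * (A : V →ₗ[ℂ] V) = 1 := A.inv_mul
  have hAi' : (A : V →ₗ[ℂ] V) * ((A⁻¹ : (V →ₗ[ℂ] V)ˣ) : V →ₗ[ℂ] V) = 1 := A.mul_inv
  have hBi : ((B⁻¹ : (V →ₗ[ℂ] V)ˣ) : V →ₗ[ℂ] V) * (B : V →ₗ[ℂ] V) = 1 := B.inv_mul
  have hBi' : (B : V →ₗ[ℂ] V) * ((B⁻¹ : (V →ₗ[ℂ] V)ˣ) : V →ₗ[ℂ] V) = 1 := B.mul_inv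
  have hρi : ∀ a, ρ a * ρ a⁻¹ = 1 := fun a => by rw [← map_mul, mul_inv_cancel, map_one]
  have hρi' : ∀ a, ρ a⁻¹ * ρ a = 1 := fun a => by rw [← map_mul, inv_mul_cancel, map_one]
  have hw0 := h.ne_zero hρ
  -- the operators over `i a * x` and `i b * y`
  have key : ∀ a b : N, ρ.character (C a b)⁻¹ = w * LinearMap.trace ℂ V
      (ρ b * ((B : V →ₗ[ℂ] V) * (ρ a * (A : V →ₗ[ℂ] V)) * ((B⁻¹ : (V →ₗ[ℂ] V)ˣ) : V →ₗ[ℂ] V)) *
        ρ b⁻¹ * (((A⁻¹ : (V →ₗ[ℂ] V)ˣ) : V →ₗ[ℂ] V) * ρ a⁻¹)) := by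
    intro a b
    have hA' : Tw i ρ (i a * x) (un ρ a * A) := (Tw.of_mem i hi ρ a).mul hA
    have hB' : Tw i ρ (i b * y) (un ρ b * B) := (Tw.of_mem i hi ρ b).mul hB
    have hW1 : W i ρ (i a * x) y w := by
      have := (W.of_mem hi a hB).mul_left hi hρ h
      rwa [one_mul] at this
    have hW2 : W i ρ (i a * x) (i b * y) w := by
      have h1 : W i ρ (i a * x) (i b) 1 := by
        have := (W.of_mem (ρ := ρ) hi b hA').symm hρ
        rwa [inv_one] at this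
      have := h1.mul_right hi hρ hW1
      rwa [one_mul] at this
    have h2 := hW2.eqn hi hρ hA' hB' (hC a b)
    rw [Units.val_mul, Units.val_mul, un_val, un_val] at h2
    -- ρ(c⁻¹) = w • B' A' B'⁻¹ A'⁻¹
    have h3 : ρ (C a b)⁻¹ = w • (ρ b * (B : V →ₗ[ℂ] V) * (ρ a * (A : V →ₗ[ℂ] V)) *
        (((B⁻¹ : (V →ₗ[ℂ] V)ˣ) : V →ₗ[ℂ] V) * ρ b⁻¹) *
        (((A⁻¹ : (V →ₗ[ℂ] V)ˣ) : V →ₗ[ℂ] V) * ρ a⁻¹)) := by
      have h4 : ρ (C a b)⁻¹ * (ρ a * (A : V →ₗ[ℂ] V) * (ρ b * (B : V →ₗ[ℂ] V))) =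
          w • (ρ b * (B : V →ₗ[ℂ] V) * (ρ a * (A : V →ₗ[ℂ] V))) := by
        rw [h2, mul_smul_comm, ← mul_assoc, hρi', one_mul]
      have h5 : (ρ a * (A : V →ₗ[ℂ] V) * (ρ b * (B : V →ₗ[ℂ] V))) *
          ((((B⁻¹ : (V →ₗ[ℂ] V)ˣ) : V →ₗ[ℂ] V) * ρ b⁻¹) *
          (((A⁻¹ : (V →ₗ[ℂ] V)ˣ) : V →ₗ[ℂ] V) * ρ a⁻¹)) = 1 := by
        calc _ = ρ a * (A : V →ₗ[ℂ] V) * (ρ b * ((B : V →ₗ[ℂ] V) *
              ((B⁻¹ : (V →ₗ[ℂ] V)ˣ) : V →ₗ[ℂ] V)) * ρ b⁻¹) *
              (((A⁻¹ : (V →ₗ[ℂ] V)ˣ) : V →ₗ[ℂ] V) * ρ a⁻¹) := by simp only [mul_assoc]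
          _ = ρ a * ((A : V →ₗ[ℂ] V) * ((A⁻¹ : (V →ₗ[ℂ] V)ˣ) : V →ₗ[ℂ] V)) * ρ a⁻¹ := by
              rw [hBi', mul_one, hρi, mul_one]; simp only [mul_assoc]
          _ = 1 := by rw [hAi', mul_one, hρi]
      calc ρ (C a b)⁻¹ = ρ (C a b)⁻¹ * ((ρ a * (A : V →ₗ[ℂ] V) * (ρ b * (B : V →ₗ[ℂ] V))) *
          ((((B⁻¹ : (V →ₗ[ℂ] V)ˣ) : V →ₗ[ℂ] V) * ρ b⁻¹) *
          (((A⁻¹ : (V →ₗ[ℂ] V)ˣ) : V →ₗ[ℂ] V) * ρ a⁻¹))) := by rw [h5, mul_one]
        _ = _ := by rw [← mul_assoc, h4, smul_mul_assoc, ← mul_assoc]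
    show LinearMap.trace ℂ V (ρ (C a b)⁻¹) = _
    rw [h3, map_smul, smul_eq_mul]
    congr 2
  have h6 : ∀ a : N, ∑ b : N, ρ.character (C a b)⁻¹ = w * ((Nat.card N : ℂ) *
      (finrank ℂ V : ℂ)⁻¹ * (LinearMap.trace ℂ V (ρ a * (A : V →ₗ[ℂ] V)) *
      LinearMap.trace ℂ V (((A⁻¹ : (V →ₗ[ℂ] V)ˣ) : V →ₗ[ℂ] V) * ρ a⁻¹))) := by
    intro a
    rw [Finset.sum_congr rfl (fun b _ => key a b), ← Finset.mul_sum, ← map_sum, ← Finset.sum_mul,
      avg hρ, smul_mul_assoc, one_mul, map_smul, smul_eq_mul]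
    congr 1
    have : LinearMap.trace ℂ V ((B : V →ₗ[ℂ] V) * (ρ a * (A : V →ₗ[ℂ] V)) *
        ((B⁻¹ : (V →ₗ[ℂ] V)ˣ) : V →ₗ[ℂ] V)) = LinearMap.trace ℂ V (ρ a * (A : V →ₗ[ℂ] V)) := by
      rw [LinearMap.trace_mul_comm, ← mul_assoc, hBi, one_mul]
    rw [this]
    ring
  rw [Finset.sum_congr rfl (fun a _ => h6 a), ← Finset.mul_sum, ← Finset.mul_sum, avg2 hρ, hAi',
    LinearMap.trace_one]
  have h7 : ρ.character 1 = (finrank ℂ V : ℂ) := Representation.char_one ρ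
  rw [h7]
  field_simp

end Cfsg.Agent.H676.RM.Avg
end

-- part: H676/RM/Count
section
/-!
# Counting the irreducible characters over an invariant character

`card_over` : `#Irr(G | θ) |G| |N| = θ(1) ∑_{n ∈ N} conj θ(n) #{(x, y) : [x, y] = n}`.
`count` : if `G = N H`, then `#Irr(G | θ) |H| |H ∩ N| = ∑_{h, h' ∈ H} Om(h, h')`, with `Om` the pairing
(`0` when `[h, h'] ∉ N`).
-/

set_option autoImplicit false
set_option linter.style.haveILetI false

namespace Cfsg.Agent.H676.RM.Count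

open Cfsg Module Cfsg.Agent.CharDeep.IrrEquiv Cfsg.Agent.H676.RM.Pair Cfsg.Agent.H676.RM.Avg
open Cfsg.Agent.Characters.Core Cfsg.Agent.H672
open scoped commutatorElement ComplexConjugate

variable {N G : Type*} [Group N] [Group G]

/-- the number of irreducible characters over an invariant character through commutators -/
theorem card_over [Finite G] [Fintype N] (i : N →* G) (hi : Function.Injective i)
    (hn : i.range.Normal) (θ : N → ℂ) (hθ : IsIrrCharacter N θ)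
    (hinv : ∀ (g : G) (n n' : N), i n' = g * i n * g⁻¹ → θ n' = θ n) :
    (Nat.card {χ : IrrCharacter G // Over i (χ : G → ℂ) θ} : ℂ) * ((Nat.card G : ℂ) * Nat.card N)
      = θ 1 * ∑ n : N, conj (θ n) *
        (Nat.card {xy : G × G // xy.1 * xy.2 * xy.1⁻¹ * xy.2⁻¹ = i n} : ℂ) := by
  classical
  have : Finite (IrrCharacter G) := finite_irr
  have := Fintype.ofFinite (IrrCharacter G)
  have hN0 : (Nat.card N : ℂ) ≠ 0 := by exact_mod_cast Nat.card_pos.ne'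
  have h1 : ∀ n : N, (Nat.card {xy : G × G // xy.1 * xy.2 * xy.1⁻¹ * xy.2⁻¹ = i n} : ℂ) =
      (Nat.card G : ℂ) * ∑ χ : IrrCharacter G, (χ : G → ℂ) (i n) / (χ : G → ℂ) 1 := by
    intro n
    rw [Cfsg.Agent.S4856.result, finsum_eq_sum_of_fintype]
  have h2 : ∑ n : N, conj (θ n) *
        (Nat.card {xy : G × G // xy.1 * xy.2 * xy.1⁻¹ * xy.2⁻¹ = i n} : ℂ) =
      (Nat.card G : ℂ) * ∑ χ : IrrCharacter G, ((Nat.card N : ℂ) *
        classInner ((χ : G → ℂ) ∘ i) θ / (χ : G → ℂ) 1) := by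
    rw [Finset.sum_congr rfl (fun n _ => by rw [h1])]
    rw [Finset.mul_sum]
    have h3 : ∀ n : N, conj (θ n) * ((Nat.card G : ℂ) *
        ∑ χ : IrrCharacter G, (χ : G → ℂ) (i n) / (χ : G → ℂ) 1) =
        ∑ χ : IrrCharacter G, (Nat.card G : ℂ) *
          ((χ : G → ℂ) (i n) * conj (θ n) / (χ : G → ℂ) 1) := by
      intro n
      rw [Finset.mul_sum, Finset.mul_sum]
      refine Finset.sum_congr rfl fun χ _ => ?_
      ring
    rw [Finset.sum_congr rfl (fun n _ => h3 n), Finset.sum_comm]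
    refine Finset.sum_congr rfl fun χ _ => ?_
    rw [← Finset.mul_sum, classInner_def, mul_inv_cancel_left₀ hN0, ← Finset.sum_div]
    rfl
  have h4 : ∀ χ : IrrCharacter G, θ 1 * ((Nat.card N : ℂ) *
        classInner ((χ : G → ℂ) ∘ i) θ / (χ : G → ℂ) 1) =
      if Over i (χ : G → ℂ) θ then (Nat.card N : ℂ) else 0 := by
    intro χ
    by_cases hO : Over i (χ : G → ℂ) θ
    · rw [if_pos hO]
      have h5 := comp_eq_smul_of_invariant_hom i hi hn χ.2 hθ hinv ((over_iff _ _ _).1 hO)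
      have h6 := congrFun h5 1
      rw [Function.comp_apply, map_one, Pi.smul_apply, smul_eq_mul] at h6
      have h7 := isIrr_apply_one_ne_zero χ.2
      have h8 : θ 1 * classInner ((χ : G → ℂ) ∘ i) θ = (χ : G → ℂ) 1 := by rw [h6, mul_comm]
      rw [← mul_div_assoc, div_eq_iff h7]
      linear_combination (Nat.card N : ℂ) * h8
    · rw [if_neg hO]
      have h5 : classInner ((χ : G → ℂ) ∘ i) θ = 0 := by
        by_contra hne
        exact hO ((over_iff _ _ _).2 hne)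
      rw [h5]; simp
  have h9 : (Nat.card {χ : IrrCharacter G // Over i (χ : G → ℂ) θ} : ℂ) * (Nat.card N : ℂ) =
      ∑ χ : IrrCharacter G, (if Over i (χ : G → ℂ) θ then (Nat.card N : ℂ) else 0) := by
    rw [← Finset.sum_filter, Finset.sum_const, nsmul_eq_mul, Nat.card_eq_fintype_card,
      Fintype.card_subtype]
  rw [h2, mul_left_comm (θ 1), Finset.mul_sum, Finset.sum_congr rfl (fun χ _ => h4 χ), ← h9]
  ring

/-- sums over cosets -/
theorem sum_coset {H : Type*} [Group H] [Fintype G] [Fintype N] [Fintype H] (i : N →* G)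
    (hi : Function.Injective i) (j : H →* G) (hj : Function.Injective j)
    (hG : ∀ g : G, ∃ (a : N) (h : H), g = i a * j h) (F : G → ℂ) :
    (Nat.card {h : H // j h ∈ i.range} : ℂ) * ∑ g : G, F g =
      ∑ h : H, ∑ a : N, F (i a * j h) := by
  classical
  have h1 : ∀ g : G, (Finset.univ.filter (fun z : H × N => i z.2 * j z.1 = g)).card =
      Nat.card {h : H // j h ∈ i.range} := by
    intro g
    obtain ⟨a0, h0, hg⟩ := hG g
    rw [← Fintype.card_subtype, ← Nat.card_eq_fintype_card]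
    have hmem : ∀ z : {z : H × N // i z.2 * j z.1 = g}, j (z.1.1 * h0⁻¹) ∈ i.range := by
      intro z
      refine ⟨z.1.2⁻¹ * a0, ?_⟩
      have h2 : i z.1.2 * j z.1.1 = i a0 * j h0 := z.2.trans hg
      rw [map_mul, map_mul, map_inv, map_inv, eq_mul_inv_iff_mul_eq, mul_assoc, ← h2,
        inv_mul_cancel_left]
    refine Nat.card_eq_of_bijective (fun z => (⟨z.1.1 * h0⁻¹, hmem z⟩ : {h : H // j h ∈ i.range}))
      ⟨?_, ?_⟩
    · rintro ⟨⟨h, a⟩, hz⟩ ⟨⟨h', a'⟩, hz'⟩ heq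
      have h3 : h = h' := mul_right_cancel (congrArg Subtype.val heq)
      subst h3
      have h4 : i a * j h = i a' * j h := hz.trans hz'.symm
      have h5 : a = a' := hi (mul_right_cancel h4)
      subst h5
      rfl
    · rintro ⟨h, a, ha⟩
      refine ⟨⟨(h * h0, a0 * a⁻¹), ?_⟩, ?_⟩
      · show i (a0 * a⁻¹) * j (h * h0) = g
        rw [map_mul, map_mul, map_inv, ha, hg]
        group
      · apply Subtype.ext
        show h * h0 * h0⁻¹ = h
        group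
  rw [← Finset.sum_product' Finset.univ Finset.univ (fun (h : H) (a : N) => F (i a * j h)),
    Finset.mul_sum]
  rw [← Finset.sum_fiberwise (s := (Finset.univ ×ˢ Finset.univ : Finset (H × N)))
    (g := fun z : H × N => i z.2 * j z.1)]
  refine Finset.sum_congr rfl fun g _ => ?_
  rw [Finset.sum_congr rfl (g := fun _ => F g) (fun z hz => by
    rw [(Finset.mem_filter.1 hz).2]), Finset.sum_const, nsmul_eq_mul]
  congr 2
  rw [← h1 g]
  congr 1

variable {V : Type*} [AddCommGroup V] [Module ℂ V]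

open Classical in
/-- the value of the pairing, `0` where it is not defined -/
noncomputable def Om (i : N →* G) (ρ : Representation ℂ N V) (x y : G) : ℂ :=
  if h : ∃ w, W i ρ x y w then h.choose else 0

theorem Om_of_W [FiniteDimensional ℂ V] {i : N →* G} (hi : Function.Injective i)
    {ρ : Representation ℂ N V} (hρ : ρ.IsIrreducible) {x y : G} {w : ℂ} (h : W i ρ x y w) :
    Om i ρ x y = w := by
  have h1 : ∃ w, W i ρ x y w := ⟨w, h⟩
  rw [Om, dif_pos h1]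
  exact h1.choose_spec.unique hi hρ h

theorem Om_of_not {i : N →* G} {ρ : Representation ℂ N V} {x y : G}
    (h : ⁅x, y⁆ ∉ i.range) : Om i ρ x y = 0 := by
  rw [Om, dif_neg]
  rintro ⟨w, A, B, -, -, c, hc, -⟩
  exact h ⟨c, hc⟩

/-- **The counting formula.** -/
theorem count [FiniteDimensional ℂ V] {H : Type*} [Group H] [Finite G] [Fintype N] [Fintype H]
    (i : N →* G) (hi : Function.Injective i) (hn : i.range.Normal)
    (ρ : Representation ℂ N V) (hρ : ρ.IsIrreducible)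
    (hinv : ∀ (g : G) (n n' : N), i n' = g * i n * g⁻¹ → ρ.character n' = ρ.character n)
    (j : H →* G) (hj : Function.Injective j) (hG : ∀ g : G, ∃ (a : N) (h : H), g = i a * j h) :
    (Nat.card {χ : IrrCharacter G // Over i (χ : G → ℂ) ρ.character} : ℂ) *
      ((Nat.card H : ℂ) * Nat.card {h : H // j h ∈ i.range}) =
      ∑ h : H, ∑ h' : H, Om i ρ (j h) (j h') := by
  classical
  have := Fintype.ofFinite G
  have hN0 : (Nat.card N : ℂ) ≠ 0 := by exact_mod_cast Nat.card_pos.ne'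
  have hG0 : (Nat.card G : ℂ) ≠ 0 := by exact_mod_cast Nat.card_pos.ne'
  have hD0 : (Nat.card {h : H // j h ∈ i.range} : ℂ) ≠ 0 := by
    have : Nonempty {h : H // j h ∈ i.range} := ⟨⟨1, by rw [map_one]; exact one_mem _⟩⟩
    exact_mod_cast Nat.card_pos.ne'
  have hθ : IsIrrCharacter N ρ.character := isIrrCharacter_of_rep ρ hρ
  have hcard : (Nat.card {h : H // j h ∈ i.range} : ℂ) * Nat.card G = Nat.card H * Nat.card N := by
    have h1 := sum_coset i hi j hj hG (fun _ => 1)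
    simp only [Finset.sum_const, Finset.card_univ, nsmul_eq_mul, mul_one] at h1
    rw [← Nat.card_eq_fintype_card, ← Nat.card_eq_fintype_card, ← Nat.card_eq_fintype_card] at h1
    exact h1
  have h0 := card_over i hi hn ρ.character hθ hinv
  -- the function E
  let E : G → ℂ := fun z => ∑ n : N, if i n = z then ρ.character n⁻¹ else 0
  have hE : ∀ (z : G) (n : N), i n = z → E z = ρ.character n⁻¹ := by
    intro z n hz
    show ∑ m : N, (if i m = z then ρ.character m⁻¹ else 0) = _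
    rw [Finset.sum_eq_single n, if_pos hz]
    · intro m _ hm
      rw [if_neg]
      intro h
      exact hm (hi (h.trans hz.symm))
    · intro h; exact absurd (Finset.mem_univ _) h
  have hE0 : ∀ z : G, z ∉ i.range → E z = 0 := by
    intro z hz
    show ∑ m : N, (if i m = z then ρ.character m⁻¹ else 0) = _
    refine Finset.sum_eq_zero fun m _ => ?_
    rw [if_neg]
    intro h
    exact hz ⟨m, h⟩
  have h1 : ∑ n : N, conj (ρ.character n) *
        (Nat.card {xy : G × G // xy.1 * xy.2 * xy.1⁻¹ * xy.2⁻¹ = i n} : ℂ) =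
      ∑ x : G, ∑ y : G, E ⁅x, y⁆ := by
    have h2 : ∀ n : N, conj (ρ.character n) *
        (Nat.card {xy : G × G // xy.1 * xy.2 * xy.1⁻¹ * xy.2⁻¹ = i n} : ℂ) =
        ∑ x : G, ∑ y : G, if i n = ⁅x, y⁆ then ρ.character n⁻¹ else 0 := by
      intro n
      rw [← Finset.sum_product', ← Finset.sum_filter, Finset.sum_const, nsmul_eq_mul,
        isCharacter_apply_inv (isIrr_isCharacter hθ), mul_comm]
      congr 2
      rw [Nat.card_eq_fintype_card, Fintype.card_subtype]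
      congr 1
      ext z
      simp only [Finset.mem_filter, Finset.mem_univ, true_and, Finset.mem_product]
      exact eq_comm
    rw [Finset.sum_congr rfl (fun n _ => h2 n), Finset.sum_comm]
    refine Finset.sum_congr rfl fun x _ => ?_
    rw [Finset.sum_comm]
  rw [h1] at h0
  -- sum over cosets
  have h3 : (Nat.card {h : H // j h ∈ i.range} : ℂ) ^ 2 * ∑ x : G, ∑ y : G, E ⁅x, y⁆ =
      ∑ h : H, ∑ h' : H, ∑ a : N, ∑ b : N, E ⁅i a * j h, i b * j h'⁆ := by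
    have h4 : ∀ x : G, (Nat.card {h : H // j h ∈ i.range} : ℂ) * ∑ y : G, E ⁅x, y⁆ =
        ∑ h' : H, ∑ b : N, E ⁅x, i b * j h'⁆ :=
      fun x => sum_coset i hi j hj hG (fun y => E ⁅x, y⁆)
    rw [sq, mul_assoc, Finset.mul_sum, Finset.sum_congr rfl (fun x _ => h4 x),
      sum_coset i hi j hj hG (fun x => ∑ h' : H, ∑ b : N, E ⁅x, i b * j h'⁆)]
    refine Finset.sum_congr rfl fun h _ => ?_
    rw [Finset.sum_comm]
  have h5 : ∀ h h' : H, ρ.character 1 * ∑ a : N, ∑ b : N, E ⁅i a * j h, i b * j h'⁆ =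
      Om i ρ (j h) (j h') * (Nat.card N : ℂ) ^ 2 := by
    intro h h'
    by_cases hc : ⁅j h, j h'⁆ ∈ i.range
    · obtain ⟨c, hc⟩ := hc
      obtain ⟨A, hA⟩ := exists_Tw hi hρ (j h) (fun n => hn.conj_mem (i n) ⟨n, rfl⟩ (j h))
        (hinv (j h))
      obtain ⟨B, hB⟩ := exists_Tw hi hρ (j h') (fun n => hn.conj_mem (i n) ⟨n, rfl⟩ (j h'))
        (hinv (j h'))
      obtain ⟨w, hw⟩ := exists_W hi hρ hA hB hc
      rw [Om_of_W hi hρ hw]
      have hC : ∀ a b : N, ∃ c : N, i c = ⁅i a * j h, i b * j h'⁆ := by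
        intro a b
        have e1 : (QuotientGroup.mk' i.range) ⁅i a * j h, i b * j h'⁆ = 1 := by
          rw [map_commutatorElement, map_mul, map_mul]
          have e2 : ∀ a, (QuotientGroup.mk' i.range) (i a) = 1 := fun a => by
            rw [← MonoidHom.mem_ker, QuotientGroup.ker_mk']; exact ⟨a, rfl⟩
          rw [e2, e2, one_mul, one_mul, ← map_commutatorElement, ← hc, e2]
        rw [← MonoidHom.mem_ker, QuotientGroup.ker_mk'] at e1
        exact e1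
      choose C hC using hC
      have h6 := sum_comm_coset hi hρ hw C hC
      rw [← h6, mul_comm]
      congr 1
      refine Finset.sum_congr rfl fun a _ => Finset.sum_congr rfl fun b _ => ?_
      exact hE _ _ (hC a b)
    · rw [Om_of_not hc, zero_mul]
      rw [Finset.sum_eq_zero, mul_zero]
      intro a _
      refine Finset.sum_eq_zero fun b _ => hE0 _ ?_
      intro hc'
      apply hc
      have e1 : (QuotientGroup.mk' i.range) ⁅i a * j h, i b * j h'⁆ = 1 := by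
        rw [← MonoidHom.mem_ker, QuotientGroup.ker_mk']; exact hc'
      rw [map_commutatorElement, map_mul, map_mul] at e1
      have e2 : ∀ a, (QuotientGroup.mk' i.range) (i a) = 1 := fun a => by
        rw [← MonoidHom.mem_ker, QuotientGroup.ker_mk']; exact ⟨a, rfl⟩
      rw [e2, e2, one_mul, one_mul, ← map_commutatorElement, ← MonoidHom.mem_ker,
        QuotientGroup.ker_mk'] at e1
      exact e1
  have h7 : ρ.character 1 * ∑ h : H, ∑ h' : H, ∑ a : N, ∑ b : N, E ⁅i a * j h, i b * j h'⁆ =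
      (∑ h : H, ∑ h' : H, Om i ρ (j h) (j h')) * (Nat.card N : ℂ) ^ 2 := by
    rw [Finset.mul_sum, Finset.sum_mul]
    refine Finset.sum_congr rfl fun h _ => ?_
    rw [Finset.mul_sum, Finset.sum_mul]
    exact Finset.sum_congr rfl fun h' _ => h5 h h'
  rw [← h3] at h7
  -- final computation
  have h8 : (Nat.card {χ : IrrCharacter G // Over i (χ : G → ℂ) ρ.character} : ℂ) *
      ((Nat.card G : ℂ) * Nat.card N) * (Nat.card {h : H // j h ∈ i.range} : ℂ) ^ 2 =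
      (∑ h : H, ∑ h' : H, Om i ρ (j h) (j h')) * (Nat.card N : ℂ) ^ 2 := by
    rw [h0, ← h7]; ring
  have h9 : ((Nat.card {χ : IrrCharacter G // Over i (χ : G → ℂ) ρ.character} : ℂ) *
      ((Nat.card H : ℂ) * Nat.card {h : H // j h ∈ i.range})) * (Nat.card N : ℂ) ^ 2 =
      (∑ h : H, ∑ h' : H, Om i ρ (j h) (j h')) * (Nat.card N : ℂ) ^ 2 := by
    rw [← h8]
    linear_combination (-(Nat.card {χ : IrrCharacter G // Over i (χ : G → ℂ) ρ.character} : ℂ) *
      (Nat.card N : ℂ) * (Nat.card {h : H // j h ∈ i.range} : ℂ)) * hcard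
  exact mul_right_cancel₀ (pow_ne_zero 2 hN0) h9

end Cfsg.Agent.H676.RM.Count
end

-- part: H676/RM/PairChar
section
/-!
# The pairing in terms of characters

`WC i θ x y w` : the pairing `W` for a representation affording the irreducible character `θ`.
-/

set_option autoImplicit false
set_option linter.style.haveILetI false

namespace Cfsg.Agent.H676.RM.PairChar

open Cfsg Module Cfsg.Agent.CharDeep.IrrEquiv Cfsg.Agent.H676.RM.Pair Cfsg.Agent.H676.RM.Count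
open Cfsg.Agent.Characters.Core Cfsg.Agent.H672
open scoped commutatorElement ComplexConjugate

variable {N G : Type*} [Group N] [Group G]

section congr
variable {V V' : Type*} [AddCommGroup V] [Module ℂ V] [AddCommGroup V'] [Module ℂ V']

theorem Tw.congr {i : N →* G} {ρ : Representation ℂ N V} {ρ' : Representation ℂ N V'}
    (φ : Representation.Equiv ρ ρ') {x : G} {A : (V →ₗ[ℂ] V)ˣ} (hA : Tw i ρ x A) :
    Tw i ρ' x (Units.map (φ.toLinearEquiv.conjAlgEquiv ℂ).toAlgHom.toMonoidHom A) := by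
  have hc : ∀ n, (φ.toLinearEquiv.conjAlgEquiv ℂ) (ρ n) = ρ' n := fun n => φ.conj_apply_self n
  refine ⟨hA.nrm, hA.nrm', fun n n' h => ?_⟩
  have h1 := hA.int n n' h
  have h2 := congrArg (φ.toLinearEquiv.conjAlgEquiv ℂ) h1
  rw [map_mul, map_mul, hc, hc] at h2
  exact h2

theorem W.congr [Finite N] [FiniteDimensional ℂ V] [FiniteDimensional ℂ V'] {i : N →* G}
    {ρ : Representation ℂ N V} {ρ' : Representation ℂ N V'} (hρ : ρ.IsIrreducible)
    (h : ρ.character = ρ'.character) {x y : G} {w : ℂ} (hW : W i ρ x y w) : W i ρ' x y w := by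
  obtain ⟨φ⟩ := nonempty_equiv ρ ρ' hρ h
  obtain ⟨A, B, hA, hB, c, hc, h1⟩ := hW
  have hcc : ∀ n, (φ.toLinearEquiv.conjAlgEquiv ℂ) (ρ n) = ρ' n := fun n => φ.conj_apply_self n
  refine ⟨_, _, Tw.congr φ hA, Tw.congr φ hB, c, hc, ?_⟩
  have h2 := congrArg (φ.toLinearEquiv.conjAlgEquiv ℂ) h1
  rw [map_mul, map_smul, map_mul, map_mul, hcc] at h2
  exact h2

end congr

/-- the pairing for an irreducible character -/
def WC (i : N →* G) (θ : N → ℂ) (x y : G) (w : ℂ) : Prop :=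
  ∃ (n : ℕ) (ρ : Representation ℂ N (Fin n → ℂ)), ρ.IsIrreducible ∧ ρ.character = θ ∧ W i ρ x y w

/-- transport to a representation affording the character -/
theorem WC.toW [Finite N] {V : Type*} [AddCommGroup V] [Module ℂ V] [FiniteDimensional ℂ V]
    {i : N →* G} {θ : N → ℂ} {x y : G} {w : ℂ} (h : WC i θ x y w)
    {ρ : Representation ℂ N V} (hθ : ρ.character = θ) : W i ρ x y w := by
  obtain ⟨n, ρ', hρ', hθ', hW⟩ := h
  exact W.congr hρ' (hθ'.trans hθ.symm) hW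

theorem WC.of_W [Finite N] {V : Type*} [AddCommGroup V] [Module ℂ V] [FiniteDimensional ℂ V]
    {i : N →* G} {θ : N → ℂ} {x y : G} {w : ℂ} {ρ : Representation ℂ N V}
    (hρ : ρ.IsIrreducible) (hθ : ρ.character = θ) (h : W i ρ x y w) : WC i θ x y w := by
  obtain ⟨n, ρ', hρ', hθ'⟩ := (isIrrCharacter_of_rep ρ hρ : IsIrrCharacter N ρ.character)
  exact ⟨n, ρ', hρ', hθ'.trans hθ, W.congr hρ hθ'.symm h⟩

theorem WC.irr {i : N →* G} {θ : N → ℂ} {x y : G} {w : ℂ} (h : WC i θ x y w) :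
    IsIrrCharacter N θ := by
  obtain ⟨n, ρ', hρ', hθ', -⟩ := h
  exact ⟨n, ρ', hρ', hθ'⟩

variable [Finite N]

theorem WC.unique {i : N →* G} (hi : Function.Injective i) {θ : N → ℂ} {x y : G} {w w' : ℂ}
    (h : WC i θ x y w) (h' : WC i θ x y w') : w = w' := by
  obtain ⟨n, ρ, hρ, hθ, hW⟩ := h
  exact hW.unique hi hρ (h'.toW hθ)

omit [Finite N] in
theorem WC.ne_zero {i : N →* G} {θ : N → ℂ} {x y : G} {w : ℂ}
    (h : WC i θ x y w) : w ≠ 0 := by
  obtain ⟨n, ρ, hρ, hθ, hW⟩ := h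
  exact hW.ne_zero hρ

theorem WC.mul_left {i : N →* G} (hi : Function.Injective i) {θ : N → ℂ} {x x' y : G} {w w' : ℂ}
    (h : WC i θ x y w) (h' : WC i θ x' y w') : WC i θ (x * x') y (w * w') := by
  obtain ⟨n, ρ, hρ, hθ, hW⟩ := h
  exact ⟨n, ρ, hρ, hθ, hW.mul_left hi hρ (h'.toW hθ)⟩

theorem WC.mul_right {i : N →* G} (hi : Function.Injective i) {θ : N → ℂ} {x y y' : G} {w w' : ℂ}
    (h : WC i θ x y w) (h' : WC i θ x y' w') : WC i θ x (y * y') (w * w') := by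
  obtain ⟨n, ρ, hρ, hθ, hW⟩ := h
  exact ⟨n, ρ, hρ, hθ, hW.mul_right hi hρ (h'.toW hθ)⟩

omit [Finite N] in
theorem WC.symm {i : N →* G} {θ : N → ℂ} {x y : G} {w : ℂ}
    (h : WC i θ x y w) : WC i θ y x w⁻¹ := by
  obtain ⟨n, ρ, hρ, hθ, hW⟩ := h
  exact ⟨n, ρ, hρ, hθ, hW.symm hρ⟩

omit [Finite N] in
theorem WC.comp_iff {G' : Type*} [Group G'] {i : N →* G} {j : G →* G'} (hj : Function.Injective j)
    {θ : N → ℂ} {x y : G} {w : ℂ} : WC (j.comp i) θ (j x) (j y) w ↔ WC i θ x y w := by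
  unfold WC
  simp only [W.comp_iff hj]

/-- `x` normalises `N` and fixes `θ` -/
structure Fix (i : N →* G) (θ : N → ℂ) (x : G) : Prop where
  nrm : ∀ n, ∃ n', i n' = x * i n * x⁻¹
  inv : ∀ n n', i n' = x * i n * x⁻¹ → θ n' = θ n

theorem Fix.exists_Tw {i : N →* G} (hi : Function.Injective i) {θ : N → ℂ} {x : G}
    (h : Fix i θ x) {n : ℕ} {ρ : Representation ℂ N (Fin n → ℂ)} (hρ : ρ.IsIrreducible)
    (hθ : ρ.character = θ) : ∃ A, Tw i ρ x A :=
  Pair.exists_Tw hi hρ x h.nrm (fun a b hab => by rw [hθ]; exact h.inv a b hab)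

theorem exists_WC {i : N →* G} (hi : Function.Injective i) {θ : N → ℂ} (hθ : IsIrrCharacter N θ)
    {x y : G} (hx : Fix i θ x) (hy : Fix i θ y) {c : N} (hc : i c = ⁅x, y⁆) :
    ∃ w, WC i θ x y w := by
  obtain ⟨n, ρ, hρ, hθ'⟩ := hθ
  obtain ⟨A, hA⟩ := hx.exists_Tw hi hρ hθ'
  obtain ⟨B, hB⟩ := hy.exists_Tw hi hρ hθ'
  obtain ⟨w, hw⟩ := exists_W hi hρ hA hB hc
  exact ⟨w, n, ρ, hρ, hθ', hw⟩

theorem WC_self {i : N →* G} (hi : Function.Injective i) {θ : N → ℂ} (hθ : IsIrrCharacter N θ)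
    {x : G} (hx : Fix i θ x) : WC i θ x x 1 := by
  obtain ⟨n, ρ, hρ, hθ'⟩ := hθ
  obtain ⟨A, hA⟩ := hx.exists_Tw hi hρ hθ'
  exact ⟨n, ρ, hρ, hθ', W.self hA⟩

theorem WC_of_mem {i : N →* G} (hi : Function.Injective i) {θ : N → ℂ} (hθ : IsIrrCharacter N θ)
    (a : N) {y : G} (hy : Fix i θ y) : WC i θ (i a) y 1 := by
  obtain ⟨n, ρ, hρ, hθ'⟩ := hθ
  obtain ⟨B, hB⟩ := hy.exists_Tw hi hρ hθ'
  exact ⟨n, ρ, hρ, hθ', W.of_mem hi a hB⟩

omit [Finite N] in
/-- restriction to a subgroup on which the character stays irreducible -/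
theorem WC.restrict {M : Type*} [Group M] [Finite M] {i : N →* G} {m : M →* N}
    (hi : Function.Injective i) {θ : N → ℂ} {x y : G} {w : ℂ} (h : WC i θ x y w)
    (hm : IsIrrCharacter M (θ ∘ m))
    (h1 : ∀ a, ∃ b, i (m b) = x * i (m a) * x⁻¹) (h2 : ∀ a, ∃ b, i (m b) = x⁻¹ * i (m a) * x)
    (h1' : ∀ a, ∃ b, i (m b) = y * i (m a) * y⁻¹) (h2' : ∀ a, ∃ b, i (m b) = y⁻¹ * i (m a) * y)
    (hc : ∃ c, i (m c) = ⁅x, y⁆) : WC (i.comp m) (θ ∘ m) x y w := by
  obtain ⟨n, ρ, hρ, hθ, hW⟩ := h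
  have h3 := hW.restrict hi hρ h1 h2 h1' h2' hc
  have h4 : Representation.character (ρ.comp m) = θ ∘ m := by rw [← hθ]; rfl
  refine ⟨n, ρ.comp m, ?_, h4, h3⟩
  obtain ⟨k, σ, hσ, hσ'⟩ := hm
  exact isIrreducible_of_character_eq σ (ρ.comp m) hσ (hσ'.trans h4.symm)

omit [Finite N] in
/-- extension relation -/
theorem ext_relC {M : Type*} [Group M] [Finite M] (m : M →* N) (ι : N →* G)
    (hι : Function.Injective ι) (hn : m.range.Normal) (hmi : Function.Injective m)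
    {η : N → ℂ} (hη : IsIrrCharacter N η)
    (hm : IsIrrCharacter M (η ∘ m)) {x : G} (hx : ∀ k, ∃ k', ι k' = x * ι k * x⁻¹)
    (hf : Fix (ι.comp m) (η ∘ m) x) :
    ∃ c : N →* ℂˣ, (∀ a, c (m a) = 1) ∧
      (∀ k k', ι k' = x * ι k * x⁻¹ → η k' = (c k : ℂ) * η k) ∧
      ∀ k0, (∃ c0 : M, ι (m c0) = ⁅x, ι k0⁆) →
        WC (ι.comp m) (η ∘ m) x (ι k0) ((c k0 : ℂ)⁻¹) := by
  obtain ⟨n, σ, hσ, rfl⟩ := hη
  have h4 : Representation.character (σ.comp m) = σ.character ∘ m := rfl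
  have h5 : Representation.IsIrreducible (σ.comp m) := by
    obtain ⟨k, σ', hσ', hσ''⟩ := hm
    exact isIrreducible_of_character_eq σ' (σ.comp m) hσ' (hσ''.trans h4.symm)
  obtain ⟨A, hA⟩ := hf.exists_Tw (show Function.Injective (ι.comp m) from hι.comp hmi) h5 h4
  obtain ⟨c, h1, h2, h3⟩ := ext_rel m ι hι hn σ h5 hA hx
  exact ⟨c, h1, h2, fun k0 hk0 => ⟨n, σ.comp m, h5, h4, h3 k0 hk0⟩⟩

open Classical in
/-- the value of the pairing, `0` where it is not defined -/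
noncomputable def OmC (i : N →* G) (θ : N → ℂ) (x y : G) : ℂ :=
  if h : ∃ w, WC i θ x y w then h.choose else 0

theorem OmC_of_WC {i : N →* G} (hi : Function.Injective i) {θ : N → ℂ} {x y : G} {w : ℂ}
    (h : WC i θ x y w) : OmC i θ x y = w := by
  have h1 : ∃ w, WC i θ x y w := ⟨w, h⟩
  rw [OmC, dif_pos h1]
  exact h1.choose_spec.unique hi h

omit [Finite N] in
theorem OmC_of_not {i : N →* G} {θ : N → ℂ} {x y : G}
    (h : ⁅x, y⁆ ∉ i.range) : OmC i θ x y = 0 := by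
  rw [OmC, dif_neg]
  rintro ⟨w, n, ρ, -, -, A, B, -, -, c, hc, -⟩
  exact h ⟨c, hc⟩

/-- **The counting formula.** -/
theorem countC {H : Type*} [Group H] [Finite G] [Fintype H]
    (i : N →* G) (hi : Function.Injective i) (hn : i.range.Normal)
    {θ : N → ℂ} (hθ : IsIrrCharacter N θ)
    (hinv : ∀ (g : G) (n n' : N), i n' = g * i n * g⁻¹ → θ n' = θ n)
    (j : H →* G) (hj : Function.Injective j) (hG : ∀ g : G, ∃ (a : N) (h : H), g = i a * j h) :
    (Nat.card {χ : IrrCharacter G // Over i (χ : G → ℂ) θ} : ℂ) *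
      ((Nat.card H : ℂ) * Nat.card {h : H // j h ∈ i.range}) =
      ∑ h : H, ∑ h' : H, OmC i θ (j h) (j h') := by
  classical
  have := Fintype.ofFinite N
  obtain ⟨n, ρ, hρ, rfl⟩ := hθ
  rw [count i hi hn ρ hρ hinv j hj hG]
  refine Finset.sum_congr rfl fun h _ => Finset.sum_congr rfl fun h' _ => ?_
  by_cases hw : ∃ w, W i ρ (j h) (j h') w
  · obtain ⟨w, hw⟩ := hw
    rw [Om_of_W hi hρ hw, OmC_of_WC hi (θ := ρ.character) ⟨n, ρ, hρ, rfl, hw⟩]
  · have hw' : ¬ ∃ w, WC i ρ.character (j h) (j h') w := fun ⟨w, hw'⟩ => hw ⟨w, hw'.toW rfl⟩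
    rw [Om, dif_neg hw, OmC, dif_neg hw']

end Cfsg.Agent.H676.RM.PairChar
end

-- part: H676/RM/Star
section
/-!
# The Glauberman correspondence for `p`-groups through multiplicities prime to `p`

* `mu f χ θ` : the multiplicity of `θ` in `χ ∘ f`; `mu_comp` : transitivity.
* `PP p f χ θ` : the multiplicity is a natural number not divisible by `p`.
* `PP_comp_iff` : if `γ` is the only constituent of `χ ∘ k` with this property, then it passes to `γ`.
* `Cop p K S C` : the `p`-group `S` acts on the `p'`-group `K` with fixed points `C`.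
-/

set_option autoImplicit false
set_option linter.style.haveILetI false

namespace Cfsg.Agent.H676.RM.Star

open Cfsg Module Cfsg.Agent.H676.RM.Pair Cfsg.Agent.H676.RM.PairChar
open Cfsg.Agent.Characters.Core Cfsg.Agent.H672
open scoped commutatorElement ComplexConjugate

section mu
variable {H G M : Type*} [Group H] [Group G] [Group M] [Finite H]

/-- the multiplicity of `θ` in `χ ∘ f` -/
noncomputable def mu (f : H →* G) (χ : G → ℂ) (θ : H → ℂ) : ℂ :=
  letI := Fintype.ofFinite H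
  classInner (χ ∘ f) θ

theorem mu_eq [Fintype H] (f : H →* G) (χ : G → ℂ) (θ : H → ℂ) :
    mu f χ θ = classInner (χ ∘ f) θ := by
  unfold mu
  have : Fintype.ofFinite H = ‹Fintype H› := Subsingleton.elim _ _
  rw [this]

theorem over_iff_mu (f : H →* G) (χ : G → ℂ) (θ : H → ℂ) : Over f χ θ ↔ mu f χ θ ≠ 0 := Iff.rfl

theorem mu_nat {f : H →* G} {χ : G → ℂ} {θ : H → ℂ} (hχ : IsCharacter G χ)
    (hθ : IsCharacter H θ) : ∃ m : ℕ, mu f χ θ = m := by
  letI := Fintype.ofFinite H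
  exact classInner_isNat (isCharacter_comp f hχ) hθ

theorem mu_comp [Finite M] [Fintype (IrrCharacter M)] (k : M →* G) (m : H →* M) {χ : G → ℂ}
    (hχ : IsCharacter G χ) (θ : H → ℂ) :
    mu (k.comp m) χ θ = ∑ γ : IrrCharacter M, mu k χ (γ : M → ℂ) * mu m (γ : M → ℂ) θ := by
  letI := Fintype.ofFinite H
  letI := Fintype.ofFinite M
  have h1 := classFunction_eq_sum (isCharacter_isClassFunction (isCharacter_comp k hχ))
  have h2 : χ ∘ (k.comp m) = ∑ γ : IrrCharacter M, mu k χ (γ : M → ℂ) • ((γ : M → ℂ) ∘ m) := by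
    funext h
    have h3 := congrFun h1 (m h)
    rw [Finset.sum_apply] at h3 ⊢
    simp only [Pi.smul_apply] at h3 ⊢
    simp only [mu_eq]
    exact h3
  rw [mu_eq, h2, classInner_sum_left]
  refine Finset.sum_congr rfl fun γ _ => ?_
  rw [classInner_smul_left, mu_eq m]

/-- the multiplicity is a natural number prime to `p` -/
def PP (p : ℕ) (f : H →* G) (χ : G → ℂ) (θ : H → ℂ) : Prop :=
  ∃ m : ℕ, mu f χ θ = m ∧ ¬ p ∣ m

theorem PP.over {p : ℕ} {f : H →* G} {χ : G → ℂ} {θ : H → ℂ} (h : PP p f χ θ) :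
    Over f χ θ := by
  obtain ⟨m, hm, hp⟩ := h
  rw [over_iff_mu, hm]
  intro h0
  have : m = 0 := by exact_mod_cast h0
  exact hp (this ▸ dvd_zero p)

theorem PP_comp_iff [Finite M] {p : ℕ} (hp : p.Prime) (k : M →* G) (m : H →* M) {χ : G → ℂ}
    (hχ : IsCharacter G χ) {θ : H → ℂ} (hθ : IsIrrCharacter H θ) {γ0 : M → ℂ}
    (hγ0 : IsIrrCharacter M γ0) (h0 : PP p k χ γ0)
    (huniq : ∀ γ, IsIrrCharacter M γ → PP p k χ γ → γ = γ0) :
    PP p (k.comp m) χ θ ↔ PP p m γ0 θ := by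
  classical
  have : Finite (IrrCharacter M) := finite_irr
  letI := Fintype.ofFinite (IrrCharacter M)
  choose a ha using fun γ : IrrCharacter M =>
    mu_nat (f := k) (θ := (γ : M → ℂ)) hχ (isIrr_isCharacter γ.2)
  choose b hb using fun γ : IrrCharacter M =>
    mu_nat (f := m) (θ := θ) (isIrr_isCharacter γ.2) (isIrr_isCharacter hθ)
  have h1 : mu (k.comp m) χ θ = ((∑ γ : IrrCharacter M, a γ * b γ : ℕ) : ℂ) := by
    rw [mu_comp k m hχ]
    push_cast
    exact Finset.sum_congr rfl fun γ _ => by rw [ha, hb]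
  have h2 : ∀ γ : IrrCharacter M, γ ≠ ⟨γ0, hγ0⟩ → p ∣ a γ := by
    intro γ hγ
    by_contra hcon
    exact hγ (Subtype.ext (huniq γ γ.2 ⟨a γ, ha γ, hcon⟩))
  have h3 : ¬ p ∣ a ⟨γ0, hγ0⟩ := by
    obtain ⟨m', hm', hpm'⟩ := h0
    have : m' = a ⟨γ0, hγ0⟩ := Nat.cast_injective (R := ℂ) (hm'.symm.trans (ha ⟨γ0, hγ0⟩))
    rwa [← this]
  have h4 : p ∣ ∑ γ : IrrCharacter M, a γ * b γ ↔ p ∣ b ⟨γ0, hγ0⟩ := by
    have h5 : ∑ γ : IrrCharacter M, a γ * b γ = a ⟨γ0, hγ0⟩ * b ⟨γ0, hγ0⟩ +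
        ∑ γ ∈ Finset.univ.erase (⟨γ0, hγ0⟩ : IrrCharacter M), a γ * b γ :=
      (Finset.add_sum_erase Finset.univ (fun γ => a γ * b γ)
        (Finset.mem_univ (⟨γ0, hγ0⟩ : IrrCharacter M))).symm
    have h6 : p ∣ ∑ γ ∈ Finset.univ.erase (⟨γ0, hγ0⟩ : IrrCharacter M), a γ * b γ :=
      Finset.dvd_sum fun γ hγ => (h2 γ (Finset.ne_of_mem_erase hγ)).mul_right _
    rw [h5, Nat.dvd_add_left h6, hp.dvd_mul]
    exact ⟨fun h => h.resolve_left h3, Or.inr⟩
  constructor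
  · rintro ⟨m', hm', hpm'⟩
    refine ⟨b ⟨γ0, hγ0⟩, hb ⟨γ0, hγ0⟩, ?_⟩
    rw [← h4]
    have : m' = ∑ γ : IrrCharacter M, a γ * b γ := Nat.cast_injective (R := ℂ) (hm'.symm.trans h1)
    rwa [← this]
  · rintro ⟨m', hm', hpm'⟩
    refine ⟨_, h1, ?_⟩
    rw [h4]
    have : m' = b ⟨γ0, hγ0⟩ := Nat.cast_injective (R := ℂ) (hm'.symm.trans (hb ⟨γ0, hγ0⟩))
    rwa [← this]

end mu

section Cop
variable {Γ : Type*} [Group Γ] [Finite Γ]

/-- The `p`-group `S` acts on the `p'`-group `K` with fixed points `C`. -/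
structure Cop (p : ℕ) (K S C : Subgroup Γ) : Prop where
  nrm : ∀ s ∈ S, ∀ g ∈ K, s * g * s⁻¹ ∈ K
  ndvd : ¬ p ∣ Nat.card K
  pS : IsPGroup p S
  eq : C = K ⊓ Subgroup.centralizer (S : Set Γ)

variable {p : ℕ} {K S C : Subgroup Γ}

omit [Finite Γ] in
theorem Cop.le (h : Cop p K S C) : C ≤ K := h.eq ▸ inf_le_left

omit [Finite Γ] in
theorem Cop.mem_iff (h : Cop p K S C) {g : Γ} : g ∈ C ↔ g ∈ K ∧ ∀ s ∈ S, s * g = g * s := by
  rw [h.eq, Subgroup.mem_inf, Subgroup.mem_centralizer_iff]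
  rfl

/-- `S`-invariant functions -/
def SInv (S K : Subgroup Γ) (τ : K → ℂ) : Prop :=
  ∀ s ∈ S, ∀ g g' : K, (g' : Γ) = s * g * s⁻¹ → τ g' = τ g

theorem Cop.coprime [Fact p.Prime] (h : Cop p K S C) : (Nat.card K).Coprime (Nat.card S) := by
  obtain ⟨n, hn⟩ := IsPGroup.iff_card.1 h.pS
  rw [hn]
  exact (Nat.Coprime.pow_left n ((Fact.out : p.Prime).coprime_iff_not_dvd.2 h.ndvd)).symm

theorem star [Fact p.Prime] (h : Cop p K S C) {τ : K → ℂ} (hτ : IsIrrCharacter K τ)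
    (hinv : SInv S K τ) : ∃ β : C → ℂ, IsIrrCharacter C β ∧ PP p (Subgroup.inclusion h.le) τ β ∧
      ∀ β', IsIrrCharacter C β' → PP p (Subgroup.inclusion h.le) τ β' → β' = β := by
  letI := Fintype.ofFinite Γ
  letI := Fintype.ofFinite K
  letI := Fintype.ofFinite C
  obtain ⟨h1, -, -, -⟩ := Cfsg.Agent.S4444.result K S h.nrm h.coprime p Fact.out h.pS C h.eq h.le
  obtain ⟨β, ⟨m, hm, hpm⟩, hu⟩ := h1 ⟨τ, hτ⟩ hinv
  refine ⟨β, β.2, ⟨m, by rw [mu_eq]; exact hm, hpm⟩, ?_⟩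
  rintro β' hβ' ⟨m', hm', hpm'⟩
  have := hu ⟨β', hβ'⟩ ⟨m', by rw [mu_eq] at hm'; exact hm', hpm'⟩
  exact congrArg Subtype.val this

theorem star_inj [Fact p.Prime] (h : Cop p K S C) {τ τ' : K → ℂ} (hτ : IsIrrCharacter K τ)
    (hτ' : IsIrrCharacter K τ') (hinv : SInv S K τ) (hinv' : SInv S K τ') {β : C → ℂ}
    (hβ : IsIrrCharacter C β) (h1 : PP p (Subgroup.inclusion h.le) τ β)
    (h2 : PP p (Subgroup.inclusion h.le) τ' β) : τ = τ' := by
  letI := Fintype.ofFinite Γ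
  letI := Fintype.ofFinite K
  letI := Fintype.ofFinite C
  obtain ⟨-, -, h3, -⟩ := Cfsg.Agent.S4444.result K S h.nrm h.coprime p Fact.out h.pS C h.eq h.le
  obtain ⟨m, hm, hpm⟩ := h1
  obtain ⟨m', hm', hpm'⟩ := h2
  rw [mu_eq] at hm hm'
  have := h3 ⟨τ, hτ⟩ ⟨τ', hτ'⟩ hinv hinv' ⟨β, hβ⟩ m m' hm hpm hm' hpm'
  exact congrArg Subtype.val this

theorem star_surj [Fact p.Prime] (h : Cop p K S C) {β : C → ℂ} (hβ : IsIrrCharacter C β) :
    ∃ τ : K → ℂ, IsIrrCharacter K τ ∧ SInv S K τ ∧ PP p (Subgroup.inclusion h.le) τ β := by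
  letI := Fintype.ofFinite Γ
  letI := Fintype.ofFinite K
  letI := Fintype.ofFinite C
  obtain ⟨-, -, -, h4⟩ := Cfsg.Agent.S4444.result K S h.nrm h.coprime p Fact.out h.pS C h.eq h.le
  obtain ⟨τ, hinv, m, hm, hpm⟩ := h4 ⟨β, hβ⟩
  exact ⟨τ, τ.2, hinv, m, by rw [mu_eq]; exact hm, hpm⟩

omit [Finite Γ] in
/-- Multiplicities and conjugation by an element normalising both groups. -/
theorem mu_conj [Finite C] (hle : C ≤ K) {x : Γ}
    (hxC : ∀ g ∈ C, x * g * x⁻¹ ∈ C) {τ τ' : K → ℂ} {β β' : C → ℂ}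
    (hτ : ∀ g g' : K, (g' : Γ) = x * g * x⁻¹ → τ' g' = τ g)
    (hβ : ∀ g g' : C, (g' : Γ) = x * g * x⁻¹ → β' g' = β g) :
    mu (Subgroup.inclusion hle) τ' β' = mu (Subgroup.inclusion hle) τ β := by
  letI := Fintype.ofFinite C
  rw [mu_eq, mu_eq, classInner_def, classInner_def]
  congr 1
  symm
  let f : C → C := fun c => ⟨x * c * x⁻¹, hxC c c.2⟩
  have hf : Function.Bijective f := by
    rw [Fintype.bijective_iff_injective_and_card]
    refine ⟨fun a b hab => ?_, rfl⟩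
    have := congrArg (fun z : C => (z : Γ)) hab
    exact Subtype.ext (mul_left_cancel (mul_right_cancel this))
  refine Fintype.sum_bijective f hf _ _ fun c => ?_
  rw [Function.comp_apply, Function.comp_apply, hβ c (f c) rfl,
    hτ (Subgroup.inclusion hle c) (Subgroup.inclusion hle (f c)) rfl]

/-- The correspondent of a fixed character is fixed. -/
theorem fix_star [Fact p.Prime] (h : Cop p K S C) {τ : K → ℂ} (hτ : IsIrrCharacter K τ)
    (hinv : SInv S K τ) {β : C → ℂ} (hβ : IsIrrCharacter C β)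
    (hP : PP p (Subgroup.inclusion h.le) τ β) {x : Γ} (hx : Fix K.subtype τ x)
    (hxC : ∀ g ∈ C, x * g * x⁻¹ ∈ C) : Fix C.subtype β x := by
  have hxC' : ∀ n : C, ∃ n' : C, C.subtype n' = x * C.subtype n * x⁻¹ :=
    fun n => ⟨⟨_, hxC n n.2⟩, rfl⟩
  refine ⟨hxC', ?_⟩
  obtain ⟨α, hα, hαi⟩ := exists_conjHom C.subtype Subtype.val_injective x hxC'
  have hsurj : Function.Surjective α := Finite.injective_iff_surjective.1 hα
  have hβ' : IsIrrCharacter C (β ∘ α) := isIrr_comp α hsurj hβ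
  obtain ⟨β0, -, -, hu⟩ := star h hτ hinv
  have h1 := hu β hβ hP
  have h2 : mu (Subgroup.inclusion h.le) τ β = mu (Subgroup.inclusion h.le) τ (β ∘ α) := by
    refine mu_conj h.le hxC (fun g g' hg => hx.inv g g' hg) (fun g g' hg => ?_)
    have : g' = α g := Subtype.ext (hg.trans (hαi g).symm)
    rw [this]; rfl
  have h3 := hu (β ∘ α) hβ' (by
    obtain ⟨m, hm, hpm⟩ := hP
    exact ⟨m, by rw [← h2]; exact hm, hpm⟩)
  intro n n' hn
  have : n' = α n := Subtype.ext (hn.trans (hαi n).symm)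
  rw [this]
  have h4 := congrFun (h3.trans h1.symm) n
  exact h4

omit [Finite Γ] in
/-- an element normalising `K` and `S` normalises `C` -/
theorem Cop.nrm_C (h : Cop p K S C) {x : Γ} (hxK : ∀ g ∈ K, x * g * x⁻¹ ∈ K)
    (hxS : ∀ s ∈ S, x⁻¹ * s * x ∈ S) : ∀ g ∈ C, x * g * x⁻¹ ∈ C := by
  intro g hg
  rw [h.mem_iff] at hg ⊢
  refine ⟨hxK g hg.1, fun s hs => ?_⟩
  have h1 := hg.2 _ (hxS s hs)
  calc s * (x * g * x⁻¹) = x * ((x⁻¹ * s * x) * g) * x⁻¹ := by group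
    _ = x * (g * (x⁻¹ * s * x)) * x⁻¹ := by rw [h1]
    _ = x * g * x⁻¹ * s := by group

end Cop

end Cfsg.Agent.H676.RM.Star
end

-- part: H676/RM/Adj
section
/-!
# Extensions to cyclic quotients, along embeddings; adjoining an element to a subgroup
-/

set_option autoImplicit false
set_option linter.style.haveILetI false

namespace Cfsg.Agent.H676.RM.PairChar

open Cfsg Module Cfsg.Agent.H676.RM.Pair Cfsg.Agent.H676.RM.Star
open Cfsg.Agent.Characters.Core Cfsg.Agent.H672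
open scoped commutatorElement ComplexConjugate

section Fix
variable {N G : Type*} [Group N] [Group G] {i : N →* G} {θ : N → ℂ}

theorem Fix.one (hi : Function.Injective i) : Fix i θ 1 :=
  ⟨fun n => ⟨n, by simp⟩, fun n n' h => by rw [hi (show i n' = i n by rw [h]; simp)]⟩

theorem Fix.mul {x y : G} (hx : Fix i θ x) (hy : Fix i θ y) : Fix i θ (x * y) := by
  refine ⟨fun n => ?_, fun n n'' h => ?_⟩
  · obtain ⟨n', hn'⟩ := hy.nrm n
    obtain ⟨n'', hn''⟩ := hx.nrm n'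
    exact ⟨n'', by rw [hn'', hn']; group⟩
  · obtain ⟨n', hn'⟩ := hy.nrm n
    rw [← hy.inv n n' hn']
    exact hx.inv n' n'' (by rw [h, hn']; group)

theorem nrm_inv [Finite N] (hi : Function.Injective i) {x : G}
    (hx : ∀ n, ∃ n', i n' = x * i n * x⁻¹) (n : N) : ∃ n', i n' = x⁻¹ * i n * x := by
  obtain ⟨α, hα, hαi⟩ := exists_conjHom i hi x hx
  obtain ⟨m, rfl⟩ := (Finite.injective_iff_surjective.1 hα) n
  exact ⟨m, by rw [hαi]; group⟩

theorem Fix.inv' [Finite N] (hi : Function.Injective i) {x : G} (hx : Fix i θ x) :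
    Fix i θ x⁻¹ := by
  refine ⟨fun n => ?_, fun n n' h => ?_⟩
  · obtain ⟨n', hn'⟩ := nrm_inv hi hx.nrm n
    exact ⟨n', by rw [hn']; group⟩
  · exact (hx.inv n' n (by rw [h]; group)).symm

theorem Fix.npow (hi : Function.Injective i) {x : G} (hx : Fix i θ x) (n : ℕ) :
    Fix i θ (x ^ n) := by
  induction n with
  | zero => rw [pow_zero]; exact Fix.one hi
  | succ n ih => rw [pow_succ]; exact ih.mul hx

theorem Fix.zpow [Finite N] (hi : Function.Injective i) {x : G} (hx : Fix i θ x) (n : ℤ) :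
    Fix i θ (x ^ n) := by
  cases n with
  | ofNat n => rw [Int.ofNat_eq_natCast, zpow_natCast]; exact hx.npow hi n
  | negSucc n => rw [zpow_negSucc]; exact (hx.npow hi (n + 1)).inv' hi

theorem Fix.of_mem (hi : Function.Injective i) (hθ : IsClassFunction N θ) (a : N) :
    Fix i θ (i a) := by
  refine ⟨fun n => ⟨a * n * a⁻¹, by simp⟩, fun n n' h => ?_⟩
  have : n' = a * n * a⁻¹ := hi (by rw [h]; simp)
  rw [this, hθ]

theorem WC.npow_left [Finite N] (hi : Function.Injective i) {x y : G} {w : ℂ}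
    (hy : Fix i θ y) (h : WC i θ x y w) (n : ℕ) : WC i θ (x ^ n) y (w ^ n) := by
  induction n with
  | zero =>
    rw [pow_zero, pow_zero, ← map_one i]
    exact WC_of_mem hi h.irr 1 hy
  | succ n ih => rw [pow_succ, pow_succ]; exact ih.mul_left hi h

theorem WC.npow_right [Finite N] (hi : Function.Injective i) {x y : G} {w : ℂ}
    (hx : Fix i θ x) (h : WC i θ x y w) (n : ℕ) : WC i θ x (y ^ n) (w ^ n) := by
  have := (WC.npow_left hi hx h.symm n).symm
  rwa [← inv_pow, inv_inv] at this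

end Fix

end Cfsg.Agent.H676.RM.PairChar

namespace Cfsg.Agent.H676.RM.Adj

open Cfsg Module Cfsg.Agent.H676.RM.Pair Cfsg.Agent.H676.RM.PairChar Cfsg.Agent.H676.RM.Star
open Cfsg.Agent.Characters.Core Cfsg.Agent.H672
open scoped commutatorElement ComplexConjugate

section Ext
variable {M N : Type*} [Group M] [Group N] [Finite N] (m : M →* N) (hm : Function.Injective m)
  (hn : m.range.Normal)
include hm hn

theorem exists_ext (hc : IsCyclic (N ⧸ m.range)) {θ : M → ℂ}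
    (hθ : IsIrrCharacter M θ)
    (hinv : ∀ (g : N) (a a' : M), m a' = g * m a * g⁻¹ → θ a' = θ a) :
    ∃ η : N → ℂ, IsIrrCharacter N η ∧ η ∘ m = θ := by
  let e : M ≃* m.range := MonoidHom.ofInjective hm
  have he : ∀ x : m.range, m (e.symm x) = x := fun x => congrArg Subtype.val (e.apply_symm_apply x)
  have h1 : IsIrrCharacter m.range (θ ∘ e.symm) :=
    isIrr_comp (e.symm : m.range →* M) e.symm.surjective hθ
  obtain ⟨η, hη, hηe⟩ := Cfsg.Agent.S0886.result m.range hc (θ ∘ e.symm) h1 (by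
    intro g n
    exact hinv g _ _ (by rw [he, he]))
  refine ⟨η, hη, ?_⟩
  funext a
  have h2 := hηe (e a)
  rw [Function.comp_apply, e.symm_apply_apply] at h2
  rw [← h2]
  rfl

theorem exists_ne_zero {η : N → ℂ} (hη : IsIrrCharacter N η) (h : IsIrrCharacter M (η ∘ m))
    (g : N) : ∃ a, η (m a * g) ≠ 0 := by
  classical
  letI := Fintype.ofFinite N
  letI := Fintype.ofFinite m.range
  let e : M ≃* m.range := MonoidHom.ofInjective hm
  have he : ∀ x : m.range, m (e.symm x) = x := fun x => congrArg Subtype.val (e.apply_symm_apply x)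
  have h1 : IsIrrCharacter m.range (fun n : m.range => η n) := by
    have := isIrr_comp (e.symm : m.range →* M) e.symm.surjective h
    convert this using 1
    funext x
    show η x = η (m (e.symm x))
    rw [he]
  have h2 := CharactersDeep.CosetAverage.cosetAverage_self m.range η hη h1 g
  by_contra hcon
  push Not at hcon
  rw [Finset.sum_eq_zero, mul_zero] at h2
  · exact zero_ne_one h2
  · intro n _
    rw [← he n, hcon, zero_mul]

theorem comp_eq_of_cyclic (hc : IsCyclic (N ⧸ m.range)) {θ : M → ℂ}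
    (hθ : IsIrrCharacter M θ)
    (hinv : ∀ (g : N) (a a' : M), m a' = g * m a * g⁻¹ → θ a' = θ a) {χ : N → ℂ}
    (hχ : IsIrrCharacter N χ) [Finite M] (ho : Over m χ θ) : χ ∘ m = θ := by
  classical
  letI := Fintype.ofFinite N
  letI := Fintype.ofFinite M
  letI := Fintype.ofFinite m.range
  obtain ⟨η, hη, hηθ⟩ := exists_ext m hm hn hc hθ hinv
  let e : M ≃* m.range := MonoidHom.ofInjective hm
  have he : ∀ x : m.range, m (e.symm x) = x := fun x => congrArg Subtype.val (e.apply_symm_apply x)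
  have hcomp : ∀ f : N → ℂ, (fun n : m.range => f n) = (f ∘ m) ∘ (e.symm : m.range →* M) := by
    intro f
    funext x
    show f x = f (m (e.symm x))
    rw [he]
  have h1 : IsIrrCharacter m.range (fun n : m.range => η n) := by
    rw [hcomp, hηθ]
    exact isIrr_comp (e.symm : m.range →* M) e.symm.surjective hθ
  have h2 : classInner (fun n : m.range => χ n) (fun n : m.range => η n) ≠ 0 := by
    rw [hcomp, hcomp, hηθ]
    have := Cfsg.Agent.Characters.Clifford.classInner_comp_mulEquiv e.symm (χ ∘ m) θ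
    have h3 : classInner ((χ ∘ m) ∘ e.symm) (θ ∘ e.symm) ≠ 0 := by
      rw [this]; exact (over_iff _ _ _).1 ho
    exact h3
  obtain ⟨lam, hlam, hlc, hmul⟩ :=
    CharactersDeep.CosetAverage.exists_irr_mul m.range η hη h1 χ hχ h2
  -- lam is linear
  have h4 : ∀ y ∈ commutator N, lam y = lam 1 := by
    intro y hy
    have hle : commutator N ≤ m.range := by
      have := hc
      exact Subgroup.Normal.quotient_commutative_iff_commutator_le.1 IsCyclic.isMulCommutative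
    have := hlc ⟨y, hle hy⟩ 1
    rwa [mul_one] at this
  obtain ⟨f, hf⟩ := OddOrderCharacters.PF9.CliffGen.exists_hom_of_ker hlam h4
  funext a
  rw [Function.comp_apply, hmul, Pi.mul_apply]
  have h5 : lam (m a) = 1 := by
    have h6 := hlc ⟨m a, ⟨a, rfl⟩⟩ 1
    rw [mul_one] at h6
    rw [h6, hf]
    simp
  rw [h5, mul_one]
  exact congrFun hηθ a

end Ext

section adj
variable {Γ : Type*} [Group Γ]

/-- `K⟨y⟩` for `y` normalising `K` -/
def adj (K : Subgroup Γ) (y : Γ) (hy : y ∈ Subgroup.normalizer (K : Set Γ)) : Subgroup Γ where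
  carrier := {g | ∃ k ∈ K, ∃ n : ℤ, g = k * y ^ n}
  one_mem' := ⟨1, K.one_mem, 0, by simp⟩
  mul_mem' := by
    rintro _ _ ⟨k, hk, n, rfl⟩ ⟨k', hk', n', rfl⟩
    have h1 : y ^ n ∈ Subgroup.normalizer (K : Set Γ) := Subgroup.zpow_mem _ hy n
    exact ⟨k * (y ^ n * k' * (y ^ n)⁻¹), K.mul_mem hk ((Subgroup.mem_normalizer_iff.1 h1 k').1 hk'),
      n + n', by rw [zpow_add]; group⟩
  inv_mem' := by
    rintro _ ⟨k, hk, n, rfl⟩
    have h1 : y ^ (-n) ∈ Subgroup.normalizer (K : Set Γ) := Subgroup.zpow_mem _ hy _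
    exact ⟨y ^ (-n) * k⁻¹ * (y ^ (-n))⁻¹, (Subgroup.mem_normalizer_iff.1 h1 k⁻¹).1 (K.inv_mem hk),
      -n, by group⟩

variable {K : Subgroup Γ} {y : Γ} (hy : y ∈ Subgroup.normalizer (K : Set Γ))

theorem mem_adj {g : Γ} : g ∈ adj K y hy ↔ ∃ k ∈ K, ∃ n : ℤ, g = k * y ^ n := Iff.rfl

theorem le_adj : K ≤ adj K y hy := fun k hk => ⟨k, hk, 0, by simp⟩

theorem self_mem_adj : y ∈ adj K y hy := ⟨1, K.one_mem, 1, by simp⟩

theorem adj_le_normalizer : adj K y hy ≤ Subgroup.normalizer (K : Set Γ) := by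
  rintro _ ⟨k, hk, n, rfl⟩
  exact Subgroup.mul_mem _ (Subgroup.le_normalizer hk) (Subgroup.zpow_mem _ hy n)

theorem range_normal : (Subgroup.inclusion (le_adj hy)).range.Normal := by
  rw [Subgroup.inclusion_range]
  refine ⟨fun n hn g => ?_⟩
  rw [Subgroup.mem_subgroupOf] at hn ⊢
  have h1 := adj_le_normalizer hy g.2
  exact (Subgroup.mem_normalizer_iff.1 h1 _).1 hn

include hy in
theorem zpow_mk (g : adj K y hy) : ∃ n : ℤ, haveI := range_normal hy
    (QuotientGroup.mk ⟨y, self_mem_adj hy⟩ : adj K y hy ⧸ (Subgroup.inclusion (le_adj hy)).range) ^ n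
      = QuotientGroup.mk g := by
  have := range_normal hy
  obtain ⟨g, k, hk, n, rfl⟩ := g
  refine ⟨n, ?_⟩
  rw [← QuotientGroup.mk_zpow]
  apply QuotientGroup.eq.2
  refine ⟨⟨(y ^ n)⁻¹ * k * y ^ n, ?_⟩, ?_⟩
  · have h1 : y ^ (-n) ∈ Subgroup.normalizer (K : Set Γ) := Subgroup.zpow_mem _ hy _
    have h2 := (Subgroup.mem_normalizer_iff.1 h1 k).1 hk
    rwa [zpow_neg, inv_inv] at h2
  · apply Subtype.ext
    show (y ^ n)⁻¹ * k * y ^ n = (y ^ n)⁻¹ * (k * y ^ n)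
    group

theorem range_cyclic : haveI := range_normal hy
    IsCyclic (adj K y hy ⧸ (Subgroup.inclusion (le_adj hy)).range) := by
  have := range_normal hy
  refine ⟨⟨QuotientGroup.mk ⟨y, self_mem_adj hy⟩, fun x => ?_⟩⟩
  obtain ⟨g, rfl⟩ := QuotientGroup.mk_surjective x
  exact zpow_mk hy g

theorem not_dvd_card [Finite Γ] {p : ℕ} (hp : p.Prime) (h1 : ¬ p ∣ Nat.card K)
    (h2 : ¬ p ∣ orderOf y) : ¬ p ∣ Nat.card (adj K y hy) := by
  intro hd
  have hN := range_normal hy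
  have hcyc := range_cyclic hy
  have h3 := Subgroup.card_eq_card_quotient_mul_card_subgroup
    ((Subgroup.inclusion (le_adj hy)).range)
  have h4 : Nat.card (Subgroup.inclusion (le_adj hy)).range = Nat.card K :=
    Nat.card_congr (MonoidHom.ofInjective (Subgroup.inclusion_injective _)).symm.toEquiv
  rw [h3, h4] at hd
  rcases (hp.dvd_mul).1 hd with h5 | h5
  · -- the quotient is generated by the image of `y`
    have h6 : Nat.card (adj K y hy ⧸ (Subgroup.inclusion (le_adj hy)).range) ∣ orderOf y := by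
      have h7 : ∀ x : adj K y hy ⧸ (Subgroup.inclusion (le_adj hy)).range,
          x ∈ Subgroup.zpowers (QuotientGroup.mk ⟨y, self_mem_adj hy⟩ :
            adj K y hy ⧸ (Subgroup.inclusion (le_adj hy)).range) := by
        intro x
        obtain ⟨g, rfl⟩ := QuotientGroup.mk_surjective x
        exact zpow_mk hy g
      rw [← orderOf_eq_card_of_forall_mem_zpowers h7]
      have h8 : orderOf (⟨y, self_mem_adj hy⟩ : adj K y hy) = orderOf y :=
        Subgroup.orderOf_mk y (self_mem_adj hy)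
      rw [← h8]
      exact orderOf_map_dvd (QuotientGroup.mk' _) _
    exact h2 (h5.trans h6)
  · exact h1 h5

/-- every element of `K⟨y⟩` fixes a character fixed by `y` -/
theorem fix_adj [Finite Γ] {τ : K → ℂ} (hτ : IsClassFunction K τ) (hf : Fix K.subtype τ y)
    {g : Γ} (hg : g ∈ adj K y hy) : Fix K.subtype τ g := by
  obtain ⟨k, hk, n, rfl⟩ := hg
  exact (Fix.of_mem (i := K.subtype) Subtype.val_injective hτ ⟨k, hk⟩).mul
    (hf.zpow Subtype.val_injective n)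

end adj

end Cfsg.Agent.H676.RM.Adj
end
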