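import Mathlib
import Cfsg.Agent.H595.Count
import Cfsg.Agent.H676.RM.Adj
import Cfsg.Agent.H672.Lin
import Cfsg.Agent.S0022
import Cfsg.Agent.H672.RM.StepA
set_option linter.all false

-- part: H676/RM/Lc
section
/-!
# Characters of `K S` which stay irreducible on the normal `p`-complement `K`

* `LC j ξ l` : the linear character `l` of the `p`-group `S` attached to `ξ` : `l ^ d = det ξ` on `S`.
* `SD p i j` : `X` is the semidirect product of `K` by `S`.
* `exists_ext`, `ext_unique` : `ξ ↦ (ξ ∘ i, l)` is a bijection.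
* `CC χ z ω` : the central character.
-/

set_option autoImplicit false
set_option linter.style.haveILetI false
set_option linter.unusedSectionVars false

namespace Cfsg.Agent.H676.RM.Lc

open Cfsg Module
open Cfsg.Agent.Characters.Core Cfsg.Agent.H672 Cfsg.Agent.CharactersDeep.ExtUnique
open scoped ComplexConjugate

section root
variable {S : Type*} [Group S] [Finite S] {p : ℕ} [Fact p.Prime]

theorem eq_one_of_pow {x : ℂˣ} {d m : ℕ} (h : Nat.Coprime d m) (h1 : x ^ d = 1) (h2 : x ^ m = 1) :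
    x = 1 := by
  have h3 := pow_gcd_eq_one.2 ⟨h1, h2⟩
  rwa [Nat.Coprime.gcd_eq_one h, pow_one] at h3

theorem coprime_card (hS : IsPGroup p S) {d : ℕ} (hd : ¬ p ∣ d) : Nat.Coprime d (Nat.card S) := by
  obtain ⟨n, hn⟩ := IsPGroup.iff_card.1 hS
  rw [hn]
  exact (Nat.Coprime.pow_left n (((Fact.out : p.Prime).coprime_iff_not_dvd).2 hd)).symm

theorem exists_root (hS : IsPGroup p S) {d : ℕ} (hd : ¬ p ∣ d) (f : S →* ℂˣ) :
    ∃ l : S →* ℂˣ, ∀ s, l s ^ d = f s := by
  obtain ⟨a, b, hab⟩ := Nat.isCoprime_iff_coprime.2 (coprime_card hS hd)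
  refine ⟨f ^ a, fun s => ?_⟩
  have h1 : f s ^ (Nat.card S) = 1 := by rw [← map_pow, pow_card_eq_one', map_one]
  have h2 : (f ^ a) s = f s ^ a := rfl
  rw [h2, ← zpow_natCast, ← zpow_mul, show a * (d : ℤ) = 1 - (Nat.card S : ℤ) * b by
    rw [← hab]; ring, zpow_sub, zpow_mul, zpow_natCast, h1, one_zpow, inv_one, mul_one, zpow_one]

theorem root_unique (hS : IsPGroup p S) {d : ℕ} (hd : ¬ p ∣ d) {l l' : S →* ℂˣ}
    (h : ∀ s, l s ^ d = l' s ^ d) : l = l' := by
  refine MonoidHom.ext fun s => ?_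
  rw [← mul_inv_eq_one]
  refine eq_one_of_pow (coprime_card hS hd) ?_ ?_
  · rw [mul_pow, inv_pow, h, mul_inv_cancel]
  · rw [mul_pow, inv_pow, ← map_pow, ← map_pow, pow_card_eq_one', map_one, map_one, inv_one, mul_one]

end root

section LC
variable {S X : Type*} [Group S] [Group X] [Finite S] [Finite X] {p : ℕ} [Fact p.Prime]

/-- `l` is the linear character of `S` attached to `ξ`. -/
def LC (j : S →* X) (ξ : X → ℂ) (l : S →* ℂˣ) : Prop :=
  ∀ s, detChar ξ (j s) = (l s : ℂ) ^ charDegree ξ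

theorem exists_LC (hS : IsPGroup p S) (j : S →* X) {ξ : X → ℂ} (hξ : IsIrrCharacter X ξ)
    (hd : ¬ p ∣ charDegree ξ) : ∃ l, LC j ξ l := by
  obtain ⟨δ, hδ⟩ := exists_hom_detChar hξ
  obtain ⟨l, hl⟩ := exists_root hS hd (δ.comp j)
  refine ⟨l, fun s => ?_⟩
  rw [hδ, ← Units.val_pow_eq_pow_val, hl]
  rfl

theorem LC.unique (hS : IsPGroup p S) {j : S →* X} {ξ : X → ℂ}
    (hd : ¬ p ∣ charDegree ξ) {l l' : S →* ℂˣ} (h : LC j ξ l) (h' : LC j ξ l') : l = l' := by
  refine root_unique hS hd fun s => ?_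
  apply Units.ext
  rw [Units.val_pow_eq_pow_val, Units.val_pow_eq_pow_val, ← h, ← h']

end LC

section SD
variable {K S X : Type*} [Group K] [Group S] [Group X] [Finite K] [Finite S] [Finite X]
  {p : ℕ} [Fact p.Prime]

/-- `X` is the semidirect product of the `p'`-group `K` and the `p`-group `S`. -/
structure SD (p : ℕ) (i : K →* X) (j : S →* X) : Prop where
  inji : Function.Injective i
  injj : Function.Injective j
  nrm : i.range.Normal
  ndvd : ¬ p ∣ Nat.card K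
  pS : IsPGroup p S
  dec : ∀ x, ∃ k s, x = i k * j s

variable {i : K →* X} {j : S →* X}

theorem SD.coprime (h : SD p i j) : (Nat.card K).Coprime (Nat.card S) :=
  coprime_card h.pS h.ndvd

theorem SD.disj (h : SD p i j) {k : K} {s : S} (hks : i k = j s) : s = 1 := by
  have h1 : s ^ Nat.card K = 1 := by
    apply h.injj
    rw [map_pow, ← hks, ← map_pow, pow_card_eq_one', map_one, map_one]
  have h2 : s ^ Nat.card S = 1 := pow_card_eq_one'
  have h3 := pow_gcd_eq_one.2 ⟨h1, h2⟩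
  rwa [Nat.Coprime.gcd_eq_one h.coprime, pow_one] at h3

theorem SD.bij (h : SD p i j) : haveI := h.nrm
    Function.Bijective ((QuotientGroup.mk' i.range).comp j) := by
  haveI := h.nrm
  constructor
  · rw [injective_iff_map_eq_one]
    intro s hs
    have h1 : (QuotientGroup.mk (j s) : X ⧸ i.range) = 1 := hs
    rw [QuotientGroup.eq_one_iff] at h1
    obtain ⟨k, hk⟩ := h1
    exact h.disj hk
  · intro x
    obtain ⟨x, rfl⟩ := QuotientGroup.mk_surjective x
    obtain ⟨k, s, rfl⟩ := h.dec x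
    refine ⟨s, ?_⟩
    rw [MonoidHom.comp_apply, QuotientGroup.mk'_apply, QuotientGroup.eq]
    have h2 : (j s)⁻¹ * (i k * j s) = (j s)⁻¹ * i k * ((j s)⁻¹)⁻¹ := by group
    rw [h2]
    exact h.nrm.conj_mem _ ⟨k, rfl⟩ _

theorem SD.exists_proj (h : SD p i j) : ∃ π : X →* S, (∀ k, π (i k) = 1) ∧ ∀ s, π (j s) = s := by
  haveI := h.nrm
  let e := MulEquiv.ofBijective _ h.bij
  refine ⟨e.symm.toMonoidHom.comp (QuotientGroup.mk' i.range), fun k => ?_, fun s => ?_⟩
  · show e.symm (QuotientGroup.mk (i k)) = 1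
    have hk : i k ∈ i.range := ⟨k, rfl⟩
    rw [(QuotientGroup.eq_one_iff (i k)).2 hk, map_one]
  · show e.symm (QuotientGroup.mk (j s)) = s
    rw [MulEquiv.symm_apply_eq]
    rfl

theorem SD.index_eq (h : SD p i j) : i.range.index = Nat.card S := by
  haveI := h.nrm
  exact (Nat.card_congr (MulEquiv.ofBijective _ h.bij).toEquiv).symm

theorem SD.index_dvd (h : SD p i j) : ∃ k, i.range.index ∣ p ^ k := by
  obtain ⟨n, hn⟩ := IsPGroup.iff_card.1 h.pS
  exact ⟨n, by rw [h.index_eq, hn]⟩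

theorem SD.irr_restrict (h : SD p i j) {ξ : X → ℂ} (hξ : IsIrrCharacter X ξ)
    (hd : ¬ p ∣ charDegree ξ) : IsIrrCharacter K (ξ ∘ i) := by
  obtain ⟨θ, hθ, ho⟩ := exists_under (f := i) hξ
  obtain ⟨k, hk⟩ := h.index_dvd
  rw [comp_eq_of_pindex i h.inji h.nrm Fact.out hk hξ hd hθ ho]
  exact hθ

theorem not_dvd_charDegree (h : ¬ p ∣ Nat.card K) {τ : K → ℂ} (hτ : IsIrrCharacter K τ) :
    ¬ p ∣ charDegree τ := fun hd =>
  letI := Fintype.ofFinite K
  h (hd.trans (Cfsg.Agent.H593.GlaubermanP.charDegree_dvd hτ))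

/-- invariance under `S` gives invariance under `X` -/
theorem SD.inv (h : SD p i j) {τ : K → ℂ} (hτ : IsClassFunction K τ)
    (hinv : ∀ s k k', i k' = j s * i k * (j s)⁻¹ → τ k' = τ k) :
    ∀ x k k', i k' = x * i k * x⁻¹ → τ k' = τ k := by
  intro x k k' hk
  obtain ⟨k0, s, rfl⟩ := h.dec x
  obtain ⟨k1, hk1⟩ := h.nrm.conj_mem (i k) ⟨k, rfl⟩ (j s)
  have h1 : k' = k0 * k1 * k0⁻¹ := by
    apply h.inji
    rw [hk, map_mul, map_mul, map_inv, hk1]
    group
  rw [h1, hτ k1 k0, hinv s k k1 hk1]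

theorem SD.exists_ext (h : SD p i j) {τ : K → ℂ} (hτ : IsIrrCharacter K τ)
    (hinv : ∀ s k k', i k' = j s * i k * (j s)⁻¹ → τ k' = τ k) (l : S →* ℂˣ) :
    ∃ ξ, IsIrrCharacter X ξ ∧ ξ ∘ i = τ ∧ LC j ξ l := by
  haveI := h.nrm
  have hinv' := h.inv (isIrr_isClassFunction hτ) hinv
  let e : K ≃* i.range := MonoidHom.ofInjective h.inji
  have he : ∀ x : K, ((e x : i.range) : X) = i x := fun x => rfl
  have hτ' : IsIrrCharacter i.range (τ ∘ e.symm) :=
    isIrr_comp (e.symm : i.range →* K) e.symm.surjective hτ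
  have hcard : Nat.card i.range = Nat.card K := (Nat.card_congr e.toEquiv).symm
  obtain ⟨χ, hχ, -⟩ := Cfsg.Agent.H595.Count.canon i.range
    (by rw [hcard, h.index_eq]; exact h.coprime) ⟨τ ∘ e.symm, hτ'⟩ (fun x n => by
      refine hinv' x (e.symm n) (e.symm _) ?_
      rw [← he, ← he, MulEquiv.apply_symm_apply, MulEquiv.apply_symm_apply])
  have hχi : ∀ k, (χ : X → ℂ) (i k) = τ k := by
    intro k
    have h1 := hχ (e k)
    rw [he] at h1
    rw [h1]
    show τ (e.symm (e k)) = τ k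
    rw [MulEquiv.symm_apply_apply]
  have hd : ¬ p ∣ charDegree (χ : X → ℂ) := by
    have h1 : charDegree (χ : X → ℂ) = charDegree τ := by
      rw [← charDegree_comp_one i]
      congr 1
      exact funext hχi
    rw [h1]
    exact not_dvd_charDegree h.ndvd hτ
  obtain ⟨r, hr⟩ := exists_LC h.pS j χ.2 hd
  obtain ⟨π, hπ1, hπ2⟩ := h.exists_proj
  let μ : S →* ℂˣ := l * r⁻¹
  have hdeg : charDegree (fun g => (χ : X → ℂ) g * (μ.comp π) g) = charDegree (χ : X → ℂ) := by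
    rw [Blocks.Basic.charDegree_def, Blocks.Basic.charDegree_def, map_one, Units.val_one, mul_one]
  refine ⟨fun g => (χ : X → ℂ) g * (μ.comp π) g, isIrr_mul_hom χ.2 _, ?_, ?_⟩
  · funext k
    show (χ : X → ℂ) (i k) * ((μ.comp π) (i k) : ℂ) = τ k
    rw [MonoidHom.comp_apply, hπ1, map_one, Units.val_one, mul_one, hχi]
  · intro s
    rw [hdeg, detChar_mul_hom χ.2 (coe_charDegree χ.2).symm (μ.comp π)]
    show detChar (χ : X → ℂ) (j s) * ((μ.comp π) (j s) : ℂ) ^ charDegree (χ : X → ℂ) = _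
    rw [hr, MonoidHom.comp_apply, hπ2, ← mul_pow]
    congr 1
    show (r s : ℂ) * ((l s * (r s)⁻¹ : ℂˣ) : ℂ) = l s
    rw [← Units.val_mul]
    congr 1
    rw [mul_comm, inv_mul_cancel_right]

theorem SD.ext_unique (h : SD p i j) {ξ1 ξ2 : X → ℂ} (h1 : IsIrrCharacter X ξ1)
    (h2 : IsIrrCharacter X ξ2) (hi : IsIrrCharacter K (ξ1 ∘ i)) (he : ξ2 ∘ i = ξ1 ∘ i)
    {l : S →* ℂˣ} (hl1 : LC j ξ1 l) (hl2 : LC j ξ2 l) : ξ1 = ξ2 := by
  haveI := h.nrm
  let e : K ≃* i.range := MonoidHom.ofInjective h.inji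
  have he' : ∀ x : K, ((e x : i.range) : X) = i x := fun x => rfl
  have hτ' : IsIrrCharacter i.range ((ξ1 ∘ i) ∘ e.symm) :=
    isIrr_comp (e.symm : i.range →* K) e.symm.surjective hi
  have hx : ∀ n : i.range, i (e.symm n) = n := fun n => by
    rw [← he', MulEquiv.apply_symm_apply]
  obtain ⟨β, hβ, hβ'⟩ := exists_hom_mul_of_restrict_eq i.range (isIrr_isCharacter h1)
    (isIrr_isCharacter h2) hτ' (fun n => by
      show ξ1 n = ξ1 (i (e.symm n))
      rw [hx]) (fun n => by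
      show ξ2 n = ξ1 (i (e.symm n))
      have := congrFun he (e.symm n)
      rw [Function.comp_apply, Function.comp_apply] at this
      rw [← this, hx])
  have hd1 : charDegree ξ1 = charDegree (ξ1 ∘ i) := (charDegree_comp_one i ξ1).symm
  have hd2 : charDegree ξ2 = charDegree ξ1 := by
    rw [hd1, ← he, charDegree_comp_one]
  have hd : ¬ p ∣ charDegree ξ1 := hd1 ▸ not_dvd_charDegree h.ndvd hi
  have h3 : ∀ s, β (j s) = 1 := by
    intro s
    have h4 : detChar ξ2 (j s) = detChar ξ1 (j s) * (β (j s) : ℂ) ^ charDegree ξ1 := by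
      have h5 := detChar_mul_hom h1 (coe_charDegree h1).symm β
      rw [← (funext hβ' : ξ2 = fun g => ξ1 g * β g)] at h5
      exact congrFun h5 (j s)
    rw [hl1 s, hl2 s, hd2] at h4
    have h6 : ((l s : ℂ) ^ charDegree ξ1) ≠ 0 := pow_ne_zero _ (Units.ne_zero _)
    have h7 : (β (j s) : ℂ) ^ charDegree ξ1 = 1 := by
      have := mul_left_cancel₀ h6 ((mul_one _).trans h4)
      exact this.symm
    refine eq_one_of_pow (coprime_card h.pS hd) (Units.ext (by
      rw [Units.val_pow_eq_pow_val, h7, Units.val_one])) ?_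
    rw [← map_pow, ← map_pow, pow_card_eq_one', map_one, map_one]
  funext x
  rw [hβ' x]
  obtain ⟨k, s, rfl⟩ := h.dec x
  rw [map_mul, hβ _ ⟨k, rfl⟩, h3, mul_one, Units.val_one, mul_one]

end SD

section CC
variable {X H : Type*} [Group X] [Finite X] [Group H] [Finite H]

/-- the value of the central character -/
def CC (χ : X → ℂ) (z : X) (ω : ℂ) : Prop := ∀ x, χ (z * x) = ω * χ x

theorem exists_CC {χ : X → ℂ} (hχ : IsIrrCharacter X χ) {z : X} (hz : ∀ x, z * x = x * z) :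
    ∃ ω : ℂ, CC χ z ω ∧ detChar χ z = ω ^ charDegree χ := by
  obtain ⟨n, ρ, hρ, rfl⟩ := hχ
  obtain ⟨c, hc⟩ := exists_smul_of_comm ρ hρ (ρ z) (fun g v => by
    show (ρ z * ρ g) v = (ρ g * ρ z) v
    rw [← map_mul, ← map_mul, hz])
  have hc' : ρ z = c • LinearMap.id := LinearMap.ext hc
  refine ⟨c, fun x => ?_, ?_⟩
  · show LinearMap.trace ℂ _ (ρ (z * x)) = c * LinearMap.trace ℂ _ (ρ x)
    rw [map_mul, hc', smul_mul_assoc, map_smul, smul_eq_mul]
    rfl
  · rw [detChar_of_rep ρ hρ]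
    show LinearMap.det (ρ z) = _
    rw [hc', LinearMap.det_smul, LinearMap.det_id, mul_one]
    congr 1
    symm
    apply charDegree_of_eq
    rw [Representation.char_one]

theorem CC.apply {χ : X → ℂ} {z : X} {ω : ℂ} (h : CC χ z ω) : χ z = ω * χ 1 := by
  have := h 1
  rwa [mul_one] at this

theorem CC.unique {χ : X → ℂ} (hχ : IsIrrCharacter X χ) {z : X} {ω ω' : ℂ} (h : CC χ z ω)
    (h' : CC χ z ω') : ω = ω' := by
  obtain ⟨d, hd, hd'⟩ := isIrr_apply_one hχ
  have h1 := h.apply.symm.trans h'.apply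
  exact mul_right_cancel₀ (by rw [hd']; exact_mod_cast hd.ne') h1

theorem CC.pow {χ : X → ℂ} {z : X} {ω : ℂ} (h : CC χ z ω) (n : ℕ) : CC χ (z ^ n) (ω ^ n) := by
  induction n with
  | zero => intro x; simp
  | succ n ih =>
    intro x
    rw [pow_succ, mul_assoc, ih, h, pow_succ, mul_assoc]

theorem CC.ne_zero {χ : X → ℂ} (hχ : IsIrrCharacter X χ) {z : X} {ω : ℂ} (h : CC χ z ω) :
    ω ≠ 0 := by
  rintro rfl
  obtain ⟨d, hd, hd'⟩ := isIrr_apply_one hχ
  have := h z⁻¹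
  rw [mul_inv_cancel, zero_mul, hd'] at this
  exact hd.ne' (by exact_mod_cast this)

theorem CC.pow_orderOf {χ : X → ℂ} (hχ : IsIrrCharacter X χ) {z : X} {ω : ℂ} (h : CC χ z ω) :
    ω ^ orderOf z = 1 := by
  have h1 := h.pow (orderOf z)
  rw [pow_orderOf_eq_one] at h1
  exact h1.unique hχ (fun x => by simp)

theorem CC_iff {χ : X → ℂ} (hχ : IsIrrCharacter X χ) {z : X} (hz : ∀ x, z * x = x * z) {ω : ℂ} :
    CC χ z ω ↔ χ z = χ 1 * ω := by
  constructor
  · intro h
    rw [h.apply, mul_comm]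
  · intro h
    obtain ⟨ω', h1, -⟩ := exists_CC hχ hz
    have h2 := h1.apply
    obtain ⟨d, hd, hd'⟩ := isIrr_apply_one hχ
    have h3 : χ 1 ≠ 0 := by rw [hd']; exact_mod_cast hd.ne'
    have : ω = ω' := by
      rw [h, mul_comm ω'] at h2
      exact mul_left_cancel₀ h3 h2
    rwa [this]

/-- central characters and constituents -/
theorem CC.of_over {f : H →* X} {χ : X → ℂ} {θ : H → ℂ} (hθ : IsIrrCharacter H θ)
    (ho : Over f χ θ) {z : H} {ω ω' : ℂ} (h : CC χ (f z) ω) (h' : CC θ z ω') : ω = ω' := by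
  letI := Fintype.ofFinite H
  rw [over_iff] at ho
  have hω' : ω' * conj ω' = 1 := by
    have h1 := h'.pow_orderOf hθ
    have h2 : ‖ω'‖ = 1 := by
      apply (pow_eq_one_iff_of_nonneg (norm_nonneg _) (orderOf_pos z).ne').1
      rw [← norm_pow, h1, norm_one]
    rw [Complex.mul_conj, Complex.normSq_eq_norm_sq, h2]
    norm_num
  have key : ω * classInner (χ ∘ f) θ = ω' * classInner (χ ∘ f) θ := by
    rw [classInner_def, mul_left_comm, mul_left_comm ω']
    congr 1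
    rw [Finset.mul_sum, Finset.mul_sum]
    have h1 : ∀ x, (χ ∘ f) (z * x) = ω * (χ ∘ f) x := fun x => by
      rw [Function.comp_apply, Function.comp_apply, map_mul, h]
    calc ∑ x, ω * ((χ ∘ f) x * conj (θ x)) = ∑ x, (χ ∘ f) (z * x) * conj (θ x) :=
          Finset.sum_congr rfl fun x _ => by rw [h1]; ring
      _ = ∑ x, (χ ∘ f) (z * x) * (ω' * conj (θ (z * x))) := by
          refine Finset.sum_congr rfl fun x _ => ?_
          rw [h', map_mul, ← mul_assoc ω', hω', one_mul]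
      _ = ∑ x, (χ ∘ f) x * (ω' * conj (θ x)) :=
          Equiv.sum_comp (Equiv.mulLeft z) (fun x => (χ ∘ f) x * (ω' * conj (θ x)))
      _ = _ := Finset.sum_congr rfl fun x _ => by ring
  exact mul_right_cancel₀ ho key

theorem CC.comp {f : H →* X} {χ : X → ℂ} {z : H} {ω : ℂ} (h : CC χ (f z) ω) : CC (χ ∘ f) z ω := by
  intro x
  rw [Function.comp_apply, Function.comp_apply, map_mul, h]

end CC

end Cfsg.Agent.H676.RM.Lc
end

-- part: H676/RM/Cyc
section
/-!
# A commuting group of endomorphisms acting irreducibly on a finite abelian group is cyclic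
-/

set_option autoImplicit false
set_option linter.style.haveILetI false

namespace Cfsg.Agent.H676.RM.Cyc

theorem exists_generator_add {V : Type*} [AddCommGroup V] [Finite V] {A : Type*} [Group A]
    [Finite A] (Φ : A →* AddMonoid.End V) (hcomm : ∀ a b, Φ a * Φ b = Φ b * Φ a)
    (hirr : ∀ W : AddSubgroup V, (∀ a, ∀ v ∈ W, Φ a v ∈ W) → W = ⊥ ∨ W = ⊤) :
    ∃ g : A, ∀ a, ∃ n : ℕ, Φ a = Φ g ^ n := by
  classical
  by_cases hV : Subsingleton V
  · refine ⟨1, fun a => ⟨0, ?_⟩⟩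
    ext v
    exact Subsingleton.elim _ _
  rw [not_subsingleton_iff_nontrivial] at hV
  let s : Set (AddMonoid.End V) := Set.range Φ
  have hs : ∀ x ∈ s, ∀ y ∈ s, x * y = y * x := by
    rintro _ ⟨a, rfl⟩ _ ⟨b, rfl⟩
    exact hcomm a b
  let R := Subring.closure s
  letI hR : CommRing R := Subring.closureCommRingOfComm hs
  have hcommR : ∀ x y : R, x * y = y * x := fun x y => mul_comm x y
  have hcommR' : ∀ x ∈ R, ∀ y ∈ R, x * y = y * x := fun x hx y hy =>
    congrArg Subtype.val (hcommR ⟨x, hx⟩ ⟨y, hy⟩)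
  have hmemR : ∀ a, Φ a ∈ R := fun a => Subring.subset_closure ⟨a, rfl⟩
  -- nonzero elements are injective
  have hinj : ∀ x ∈ R, x ≠ 0 → Function.Injective x := by
    intro x hx hx0
    let W : AddSubgroup V :=
      { carrier := {v | x v = 0}
        zero_mem' := map_zero x
        add_mem' := fun {a b} ha hb => by
          show x (a + b) = 0
          rw [map_add, show x a = 0 from ha, show x b = 0 from hb, add_zero]
        neg_mem' := fun {a} ha => by
          show x (-a) = 0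
          rw [map_neg, show x a = 0 from ha, neg_zero] }
    have hW : ∀ v, v ∈ W ↔ x v = 0 := fun v => Iff.rfl
    have h1 := hirr W (fun a v hv => by
      rw [hW] at hv ⊢
      have h2 := hcommR' x hx (Φ a) (hmemR a)
      have h3 : x (Φ a v) = Φ a (x v) := congrArg (fun f : AddMonoid.End V => f v) h2
      rw [h3, hv, map_zero])
    rcases h1 with h1 | h1
    · intro a b hab
      have h2 : a - b ∈ W := by
        rw [hW, map_sub, hab, sub_self]
      rw [h1, AddSubgroup.mem_bot] at h2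
      exact sub_eq_zero.1 h2
    · exfalso
      apply hx0
      ext v
      have : v ∈ W := by rw [h1]; trivial
      exact this
  have hdom : NoZeroDivisors R := by
    refine ⟨?_⟩
    rintro ⟨x, hx⟩ ⟨y, hy⟩ hxy
    by_cases hy0 : y = 0
    · right; exact Subtype.ext hy0
    · left
      apply Subtype.ext
      show x = 0
      have h1 := hinj y hy hy0
      have h2 : Function.Surjective y := Finite.injective_iff_surjective.1 h1
      have h3 : x * y = 0 := congrArg Subtype.val hxy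
      ext v
      obtain ⟨u, rfl⟩ := h2 v
      exact congrArg (fun f : AddMonoid.End V => f u) h3
  have hnt : Nontrivial R := by
    refine ⟨⟨0, 1, fun h => ?_⟩⟩
    have h1 : (0 : AddMonoid.End V) = 1 := congrArg Subtype.val h
    obtain ⟨v, hv⟩ := exists_ne (0 : V)
    apply hv
    have h2 := congrArg (fun f : AddMonoid.End V => f v) h1
    exact h2.symm
  haveI : IsDomain R := NoZeroDivisors.to_isDomain R
  let Ψ : A →* Rˣ := MonoidHom.toHomUnits
    { toFun := fun a => (⟨Φ a, hmemR a⟩ : R)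
      map_one' := Subtype.ext (map_one Φ)
      map_mul' := fun a b => Subtype.ext (map_mul Φ a b) }
  have hΨ : ∀ a, (((Ψ a : Rˣ) : R) : AddMonoid.End V) = Φ a := fun a => rfl
  have hfin : Finite Ψ.range := Finite.of_surjective Ψ.rangeRestrict Ψ.rangeRestrict_surjective
  haveI hcyc : IsCyclic Ψ.range := isCyclic_subgroup_units Ψ.range
  obtain ⟨⟨_, g, rfl⟩, hg⟩ := hcyc.exists_generator
  refine ⟨g, fun a => ?_⟩
  have h1 := hg ⟨Ψ a, a, rfl⟩
  rw [← mem_powers_iff_mem_zpowers] at h1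
  obtain ⟨n, hn⟩ := h1
  refine ⟨n, ?_⟩
  have h2 : Ψ g ^ n = Ψ a := congrArg Subtype.val hn
  have h3 := congrArg (fun u : Rˣ => ((u : R) : AddMonoid.End V)) h2
  simp only [Units.val_pow_eq_pow_val, SubmonoidClass.coe_pow, hΨ] at h3
  exact h3.symm

theorem exists_generator {Q : Type*} [Group Q] [Finite Q] (hQ : ∀ a b : Q, a * b = b * a)
    {A : Type*} [Group A]
    [Finite A] (Φ : A →* Monoid.End Q) (hcomm : ∀ a b, Φ a * Φ b = Φ b * Φ a)
    (hirr : ∀ W : Subgroup Q, (∀ a, ∀ v ∈ W, Φ a v ∈ W) → W = ⊥ ∨ W = ⊤) :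
    ∃ g : A, ∀ a, ∃ n : ℕ, Φ a = Φ g ^ n := by
  letI : CommGroup Q := { ‹Group Q› with mul_comm := hQ }
  let Φ' : A →* AddMonoid.End (Additive Q) :=
    { toFun := fun a => MonoidHom.toAdditive (Φ a)
      map_one' := by rw [map_one]; rfl
      map_mul' := fun a b => by rw [map_mul]; rfl }
  have hΦ' : ∀ a (v : Q), Φ' a (Additive.ofMul v) = Additive.ofMul (Φ a v) := fun a v => rfl
  obtain ⟨g, hg⟩ := exists_generator_add Φ' (fun a b => by
      rw [← map_mul, ← map_mul]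
      ext v
      exact congrArg (fun f : Monoid.End Q => Additive.ofMul (f v.toMul))
        (show Φ (a * b) = Φ (b * a) by rw [map_mul, map_mul, hcomm])) (fun W hW => by
      have h1 := hirr (AddSubgroup.toSubgroup' W) (fun a v hv => hW a (Additive.ofMul v) hv)
      rcases h1 with h1 | h1
      · left
        ext v
        constructor
        · intro hv
          have : v.toMul ∈ AddSubgroup.toSubgroup' W := hv
          rw [h1, Subgroup.mem_bot] at this
          rw [AddSubgroup.mem_bot]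
          exact this
        · intro hv
          rw [AddSubgroup.mem_bot] at hv
          rw [hv]; exact W.zero_mem
      · right
        ext v
        constructor
        · intro _; trivial
        · intro _
          have : v.toMul ∈ AddSubgroup.toSubgroup' W := by rw [h1]; trivial
          exact this)
  refine ⟨g, fun a => ?_⟩
  obtain ⟨n, hn⟩ := hg a
  refine ⟨n, ?_⟩
  rw [← map_pow] at hn ⊢
  ext v
  exact congrArg (fun f : AddMonoid.End (Additive Q) => (f (Additive.ofMul v)).toMul) hn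

end Cfsg.Agent.H676.RM.Cyc
end

-- part: H676/RM/Step
section
/-!
# The pairing and the Glauberman correspondence: an element centralising the acting group

`step` : the `p`-group `S` acts on the `p'`-group `K` with fixed points `C`, `y` is a `p'`-element
commuting with `S`, `x` normalises `S`, and `⁅x, y⁆ ∈ C`. Then the pairings of `τ` and of its correspondent
agree at `x`, `y`.
-/

set_option autoImplicit false
set_option linter.style.haveILetI false

namespace Cfsg.Agent.H676.RM.Step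

open Cfsg Module Cfsg.Agent.H676.RM.Pair Cfsg.Agent.H676.RM.PairChar Cfsg.Agent.H676.RM.Star
open Cfsg.Agent.Characters.Core Cfsg.Agent.H672 Cfsg.Agent.H676.RM.Adj
open scoped commutatorElement ComplexConjugate

variable {Γ : Type*} [Group Γ] [Finite Γ] {p : ℕ} {K S C : Subgroup Γ}

theorem mem_normalizer_of_conj {y : Γ} (h : ∀ g ∈ K, y * g * y⁻¹ ∈ K) :
    y ∈ Subgroup.normalizer (K : Set Γ) := by
  rw [Subgroup.mem_normalizer_iff]
  intro g
  refine ⟨h g, fun hg => ?_⟩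
  have h1 := nrm_inv (i := K.subtype) Subtype.val_injective (x := y)
    (fun n => ⟨⟨_, h n n.2⟩, rfl⟩) ⟨_, hg⟩
  obtain ⟨n', hn'⟩ := h1
  have h2 : (n' : Γ) = g := by
    have : (n' : Γ) = y⁻¹ * (y * g * y⁻¹) * y := hn'
    rw [this]; group
  rw [← h2]
  exact n'.2

omit [Finite Γ] in
theorem conj_mem_of_fix {τ : K → ℂ} {y : Γ} (h : Fix K.subtype τ y) : ∀ g ∈ K, y * g * y⁻¹ ∈ K := by
  intro g hg
  obtain ⟨n', hn'⟩ := h.nrm ⟨g, hg⟩
  have : (n' : Γ) = y * g * y⁻¹ := hn'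
  rw [← this]
  exact n'.2

omit [Finite Γ] in
theorem conj_mem_adj {y x : Γ} (hy : y ∈ Subgroup.normalizer (K : Set Γ))
    (hxK : ∀ g ∈ K, x * g * x⁻¹ ∈ K) (hxy : x * y * x⁻¹ ∈ adj K y hy) :
    ∀ g ∈ adj K y hy, x * g * x⁻¹ ∈ adj K y hy := by
  rintro _ ⟨k, hk, n, rfl⟩
  have : x * (k * y ^ n) * x⁻¹ = (x * k * x⁻¹) * (x * y * x⁻¹) ^ n := by
    rw [conj_zpow]; group
  rw [this]
  exact Subgroup.mul_mem _ (le_adj hy (hxK k hk)) (Subgroup.zpow_mem _ hxy n)

theorem root_eq_one [Fact p.Prime] {w : ℂ} {a b k : ℕ} (ha : a = p ^ k) (hb : ¬ p ∣ b)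
    (h1 : w ^ a = 1) (h2 : w ^ b = 1) : w = 1 := by
  have h3 : orderOf w ∣ a := orderOf_dvd_of_pow_eq_one h1
  have h4 : orderOf w ∣ b := orderOf_dvd_of_pow_eq_one h2
  have h5 : a.Coprime b := by
    rw [ha]
    exact Nat.Coprime.pow_left k (((Fact.out : p.Prime).coprime_iff_not_dvd).2 hb)
  have h6 : orderOf w ∣ 1 := by
    have := Nat.dvd_gcd h3 h4
    rwa [h5] at this
  rw [← orderOf_eq_one_iff]
  exact Nat.dvd_one.1 h6

theorem step [Fact p.Prime] (h : Cop p K S C) {x y : Γ}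
    (hy : ¬ p ∣ orderOf y) (hyS : ∀ s ∈ S, s * y = y * s)
    (hxS : ∀ s ∈ S, x⁻¹ * s * x ∈ S) (hc : ⁅x, y⁆ ∈ C) {τ : K → ℂ} (hτ : IsIrrCharacter K τ)
    (hτS : SInv S K τ) (hτx : Fix K.subtype τ x) (hτy : Fix K.subtype τ y) {β : C → ℂ}
    (hβ : IsIrrCharacter C β) (hP : PP p (Subgroup.inclusion h.le) τ β) :
    ∃ w, WC K.subtype τ x y w ∧ WC C.subtype β x y w := by
  have hp : p.Prime := Fact.out
  have hyK := conj_mem_of_fix hτy
  have hxK := conj_mem_of_fix hτx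
  have hyN : y ∈ Subgroup.normalizer (K : Set Γ) := mem_normalizer_of_conj hyK
  have hyCc : ∀ g ∈ C, y * g * y⁻¹ ∈ C := h.nrm_C hyK (fun s hs => by
    rw [mul_assoc, hyS s hs, inv_mul_cancel_left]; exact hs)
  have hyC : y ∈ Subgroup.normalizer (C : Set Γ) := mem_normalizer_of_conj hyCc
  have hxCc : ∀ g ∈ C, x * g * x⁻¹ ∈ C := h.nrm_C hxK hxS
  have hfx : Fix C.subtype β x := fix_star h hτ hτS hβ hP hτx hxCc
  have hfy : Fix C.subtype β y := fix_star h hτ hτS hβ hP hτy hyCc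
  -- the bigger groups
  have h' : Cop p (adj K y hyN) S (adj C y hyC) := by
    refine ⟨?_, not_dvd_card hyN hp h.ndvd hy, h.pS, ?_⟩
    · rintro s hs _ ⟨k, hk, n, rfl⟩
      refine ⟨s * k * s⁻¹, h.nrm s hs k hk, n, ?_⟩
      have h1 : Commute s (y ^ n) := Commute.zpow_right (hyS s hs) n
      calc s * (k * y ^ n) * s⁻¹ = s * k * (y ^ n * s⁻¹) := by group
        _ = s * k * (s⁻¹ * y ^ n) := by rw [h1.inv_left.eq]
        _ = s * k * s⁻¹ * y ^ n := by group
    · ext g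
      rw [Subgroup.mem_inf, Subgroup.mem_centralizer_iff]
      constructor
      · rintro ⟨k, hk, n, rfl⟩
        refine ⟨⟨k, h.le hk, n, rfl⟩, fun s hs => ?_⟩
        have h1 : Commute s (y ^ n) := Commute.zpow_right (hyS s hs) n
        have h2 := (h.mem_iff.1 hk).2 s hs
        rw [← mul_assoc, h2, mul_assoc, h1.eq, mul_assoc]
      · rintro ⟨⟨k, hk, n, rfl⟩, hcomm⟩
        refine ⟨k, h.mem_iff.2 ⟨hk, fun s hs => ?_⟩, n, rfl⟩
        have h1 : Commute s (y ^ n) := Commute.zpow_right (hyS s hs) n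
        have h2 := hcomm s hs
        have h3 : s * k * y ^ n = k * s * y ^ n := by
          rw [mul_assoc, h2, mul_assoc, mul_assoc, h1.eq]
        exact mul_right_cancel h3
  -- the extension of τ
  have hmi : Function.Injective (Subgroup.inclusion (le_adj hyN)) := Subgroup.inclusion_injective _
  have hmiC : Function.Injective (Subgroup.inclusion (le_adj hyC)) := Subgroup.inclusion_injective _
  obtain ⟨η, hη, hητ⟩ := exists_ext (Subgroup.inclusion (le_adj hyN)) hmi (range_normal hyN)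
    (range_cyclic hyN) hτ (fun g a a' haa => (fix_adj hyN (isIrr_isClassFunction hτ) hτy
      g.2).inv a a' (congrArg Subtype.val haa))
  have hημ : IsIrrCharacter K (η ∘ Subgroup.inclusion (le_adj hyN)) := by rw [hητ]; exact hτ
  -- S-invariance of η
  have hηS : SInv S (adj K y hyN) η := by
    intro s hs
    have hfs : Fix K.subtype τ s :=
      ⟨fun n => ⟨⟨_, h.nrm s hs n n.2⟩, rfl⟩, fun n n' hn => hτS s hs n n' hn⟩
    obtain ⟨c, hc1, hc2, hc3⟩ := ext_relC (Subgroup.inclusion (le_adj hyN)) (adj K y hyN).subtype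
      Subtype.val_injective (range_normal hyN) hmi hη hημ (x := s)
      (fun k => ⟨⟨_, h'.nrm s hs k k.2⟩, rfl⟩) (by rw [hητ]; exact hfs)
    have hsy : ⁅s, y⁆ = 1 := commutatorElement_eq_one_iff_mul_comm.2 (hyS s hs)
    have h1 := hc3 ⟨y, self_mem_adj hyN⟩ ⟨1, by
      show ((Subgroup.inclusion (le_adj hyN) 1 : adj K y hyN) : Γ) = ⁅s, y⁆
      rw [hsy, map_one]; rfl⟩
    rw [hητ] at h1
    have h2 : WC K.subtype τ s y ((c ⟨y, self_mem_adj hyN⟩ : ℂ)⁻¹) := h1
    have h3 := WC.npow_left (i := K.subtype) Subtype.val_injective hτy h2 (orderOf s)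
    rw [pow_orderOf_eq_one] at h3
    have h4 := h3.unique Subtype.val_injective
      (WC_of_mem (i := K.subtype) Subtype.val_injective hτ 1 hτy)
    have h5 := WC.npow_right (i := K.subtype) Subtype.val_injective hfs h2 (orderOf y)
    rw [pow_orderOf_eq_one] at h5
    have h6 := h5.unique Subtype.val_injective (by
      have := (WC_of_mem (i := K.subtype) Subtype.val_injective hτ 1 hfs).symm
      rwa [inv_one] at this)
    obtain ⟨k, hk⟩ := (IsPGroup.iff_orderOf.1 h.pS) ⟨s, hs⟩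
    rw [Subgroup.orderOf_mk] at hk
    have h7 := root_eq_one hk hy h4 h6
    have h8 : c ⟨y, self_mem_adj hyN⟩ = 1 := by
      apply Units.ext
      rw [Units.val_one, ← inv_inv (c ⟨y, self_mem_adj hyN⟩ : ℂ), h7, inv_one]
    have h9 : ∀ g : adj K y hyN, c g = 1 := by
      rintro ⟨_, k, hk, n, rfl⟩
      have e1 : (⟨k * y ^ n, ⟨k, hk, n, rfl⟩⟩ : adj K y hyN) =
          Subgroup.inclusion (le_adj hyN) ⟨k, hk⟩ * ⟨y, self_mem_adj hyN⟩ ^ n := by
        apply Subtype.ext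
        rw [Subgroup.coe_mul, Subgroup.coe_zpow]
        rfl
      rw [e1, map_mul, hc1, one_mul, map_zpow, h8, one_zpow]
    intro g g' hg
    rw [hc2 g g' hg, h9, Units.val_one, one_mul]
  -- the correspondent of η
  obtain ⟨ζ, hζ, hηζ, hu⟩ := star h' hη hηS
  have hPm : PP p (Subgroup.inclusion (le_adj hyC)) ζ β := by
    rw [← PP_comp_iff hp (Subgroup.inclusion h'.le) (Subgroup.inclusion (le_adj hyC))
      (isIrr_isCharacter hη) hβ hζ hηζ hu]
    obtain ⟨m, hm, hpm⟩ := hP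
    refine ⟨m, ?_, hpm⟩
    rw [← hm]
    have e1 : η ∘ ((Subgroup.inclusion h'.le).comp (Subgroup.inclusion (le_adj hyC))) =
        τ ∘ (Subgroup.inclusion h.le) := by
      rw [← hητ]; rfl
    unfold mu
    rw [e1]
  have hζβ : ζ ∘ (Subgroup.inclusion (le_adj hyC)) = β :=
    comp_eq_of_cyclic _ hmiC (range_normal hyC) (range_cyclic hyC) hβ
      (fun g a a' haa => (fix_adj hyC (isIrr_isClassFunction hβ) hfy g.2).inv a a'
        (congrArg Subtype.val haa)) hζ hPm.over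
  have hζμ : IsIrrCharacter C (ζ ∘ Subgroup.inclusion (le_adj hyC)) := by rw [hζβ]; exact hβ
  -- x normalises the bigger groups
  have hxy : x * y * x⁻¹ = ⁅x, y⁆ * y := by rw [commutatorElement_def]; group
  have hxK' := conj_mem_adj hyN hxK (by
    rw [hxy]; exact Subgroup.mul_mem _ (le_adj hyN (h.le hc)) (self_mem_adj hyN))
  have hxC' := conj_mem_adj hyC hxCc (by
    rw [hxy]; exact Subgroup.mul_mem _ (le_adj hyC hc) (self_mem_adj hyC))
  obtain ⟨c, hc1, hc2, hc3⟩ := ext_relC (Subgroup.inclusion (le_adj hyN)) (adj K y hyN).subtype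
      Subtype.val_injective (range_normal hyN) hmi hη hημ (x := x)
      (fun k => ⟨⟨_, hxK' k k.2⟩, rfl⟩) (by rw [hητ]; exact hτx)
  obtain ⟨d, hd1, hd2, hd3⟩ := ext_relC (Subgroup.inclusion (le_adj hyC)) (adj C y hyC).subtype
      Subtype.val_injective (range_normal hyC) hmiC hζ hζμ (x := x)
      (fun k => ⟨⟨_, hxC' k k.2⟩, rfl⟩) (by rw [hζβ]; exact hfx)
  have hw1 : WC K.subtype τ x y ((c ⟨y, self_mem_adj hyN⟩ : ℂ)⁻¹) := by
    have := hc3 ⟨y, self_mem_adj hyN⟩ ⟨⟨⁅x, y⁆, h.le hc⟩, rfl⟩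
    rwa [hητ] at this
  have hw2 : WC C.subtype β x y ((d ⟨y, self_mem_adj hyC⟩ : ℂ)⁻¹) := by
    have := hd3 ⟨y, self_mem_adj hyC⟩ ⟨⟨⁅x, y⁆, hc⟩, rfl⟩
    rwa [hζβ] at this
  -- comparison
  let l : adj C y hyC →* ℂˣ := c.comp (Subgroup.inclusion h'.le)
  have hcη : IsIrrCharacter (adj K y hyN) (fun g => (c g : ℂ) * η g) := isIrr_mul_lf c hη
  have hcS : SInv S (adj K y hyN) (fun g => (c g : ℂ) * η g) := by
    intro s hs g g' hg
    have e1 : c g' = c g := by
      obtain ⟨_, k, hk, n, rfl⟩ := g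
      have hg' : g' = Subgroup.inclusion (le_adj hyN) ⟨s * k * s⁻¹, h.nrm s hs k hk⟩ *
          ⟨y, self_mem_adj hyN⟩ ^ n := by
        apply Subtype.ext
        rw [hg, Subgroup.coe_mul, Subgroup.coe_zpow]
        have h1 : Commute s (y ^ n) := Commute.zpow_right (hyS s hs) n
        show s * (k * y ^ n) * s⁻¹ = s * k * s⁻¹ * y ^ n
        calc s * (k * y ^ n) * s⁻¹ = s * k * (y ^ n * s⁻¹) := by group
          _ = s * k * (s⁻¹ * y ^ n) := by rw [h1.inv_left.eq]
          _ = s * k * s⁻¹ * y ^ n := by group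
      have hg2 : (⟨k * y ^ n, ⟨k, hk, n, rfl⟩⟩ : adj K y hyN) =
          Subgroup.inclusion (le_adj hyN) ⟨k, hk⟩ * ⟨y, self_mem_adj hyN⟩ ^ n := by
        apply Subtype.ext
        rw [Subgroup.coe_mul, Subgroup.coe_zpow]
        rfl
      rw [hg', hg2, map_mul, map_mul, hc1, hc1]
    show (c g' : ℂ) * η g' = (c g : ℂ) * η g
    rw [e1, hηS s hs g g' hg]
  obtain ⟨ζ0, -, -, hu0⟩ := star h' hcη hcS
  have e1 : (fun g => (l g : ℂ) * ζ g) = ζ0 := by
    refine hu0 _ (isIrr_mul_lf l hζ) ?_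
    obtain ⟨m, hm, hpm⟩ := hηζ
    refine ⟨m, ?_, hpm⟩
    rw [← hm]
    letI := Fintype.ofFinite (adj C y hyC)
    rw [mu_eq, mu_eq, classInner_def, classInner_def]
    congr 1
    refine Finset.sum_congr rfl fun g _ => ?_
    show (c (Subgroup.inclusion h'.le g) : ℂ) * η (Subgroup.inclusion h'.le g) *
      conj ((c (Subgroup.inclusion h'.le g) : ℂ) * ζ g) = η (Subgroup.inclusion h'.le g) * conj (ζ g)
    have h1 := lf_mul_conj c (Subgroup.inclusion h'.le g)
    rw [map_mul]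
    linear_combination (η (Subgroup.inclusion h'.le g) * conj (ζ g)) * h1
  have e2 : (fun g => (d g : ℂ) * ζ g) = ζ0 := by
    refine hu0 _ (isIrr_mul_lf d hζ) ?_
    obtain ⟨m, hm, hpm⟩ := hηζ
    refine ⟨m, ?_, hpm⟩
    rw [← hm]
    exact (mu_conj h'.le hxC' (fun g g' hg => hc2 g g' hg) (fun g g' hg => hd2 g g' hg)).symm
  obtain ⟨a, ha⟩ := exists_ne_zero (Subgroup.inclusion (le_adj hyC)) hmiC (range_normal hyC) hζ hζμ
    ⟨y, self_mem_adj hyC⟩
  have e3 := congrFun (e1.trans e2.symm) (Subgroup.inclusion (le_adj hyC) a *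
    ⟨y, self_mem_adj hyC⟩)
  have e4 := mul_right_cancel₀ ha e3
  rw [map_mul, map_mul, hd1, one_mul] at e4
  have e5 : l (Subgroup.inclusion (le_adj hyC) a) = 1 := hc1 ⟨a, h.le a.2⟩
  rw [e5, one_mul] at e4
  have e6 : (c ⟨y, self_mem_adj hyN⟩ : ℂ) = (d ⟨y, self_mem_adj hyC⟩ : ℂ) := e4
  refine ⟨_, hw1, ?_⟩
  rw [e6]
  exact hw2

end Cfsg.Agent.H676.RM.Step
end

-- part: H676/RM/Chain
section
/-!
# The pairing of a character and of its Glauberman correspondent agree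

`chain` : the `p`-group `S` acts on the `p'`-group `K` with fixed points `C`, `A` is a `p'`-group
normalising `K` and `S` with `⁅A, A⁆ ≤ C` and fixing `τ`. Then for `a, b ∈ A` the pairings of `τ` and of its
correspondent `β` at `a`, `b` are equal.
-/

set_option autoImplicit false
set_option linter.style.haveILetI false

namespace Cfsg.Agent.H676.RM.Chain

open Cfsg Module Cfsg.Agent.H676.RM.Pair Cfsg.Agent.H676.RM.PairChar Cfsg.Agent.H676.RM.Star
open Cfsg.Agent.Characters.Core Cfsg.Agent.H672 Cfsg.Agent.H676.RM.Adj Cfsg.Agent.H676.RM.Step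
open scoped commutatorElement ComplexConjugate

variable {Γ : Type*} [Group Γ] [Finite Γ] {p : ℕ}

omit [Finite Γ] in
/-- The induced endomorphisms of `S / S1`. -/
theorem exists_action (S S1 A : Subgroup Γ)
    (hn : ∀ s ∈ S, ∀ t ∈ S1, s * t * s⁻¹ ∈ S1)
    (hAS : ∀ a ∈ A, ∀ s ∈ S, a * s * a⁻¹ ∈ S) (hAS1 : ∀ a ∈ A, ∀ s ∈ S1, a * s * a⁻¹ ∈ S1) :
    ∃ (_ : (S1.subgroupOf S).Normal) (Φ : A →* Monoid.End (S ⧸ S1.subgroupOf S)),
      ∀ (a : A) (s s' : S), (s' : Γ) = a * s * (a : Γ)⁻¹ →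
        Φ a (QuotientGroup.mk s) = QuotientGroup.mk s' := by
  have hN : (S1.subgroupOf S).Normal := by
    refine ⟨fun n hn' g => ?_⟩
    rw [Subgroup.mem_subgroupOf] at hn' ⊢
    exact hn g g.2 _ hn'
  let f : A → (S →* S) := fun a =>
    { toFun := fun s => ⟨a * s * (a : Γ)⁻¹, hAS a a.2 s s.2⟩
      map_one' := Subtype.ext (by simp)
      map_mul' := fun s t => Subtype.ext (by
        show (a : Γ) * (s * t : S) * (a : Γ)⁻¹ = (a * s * (a : Γ)⁻¹) * (a * t * (a : Γ)⁻¹)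
        rw [Subgroup.coe_mul]; group) }
  have hf : ∀ a, S1.subgroupOf S ≤ (S1.subgroupOf S).comap (f a) := by
    intro a s hs
    rw [Subgroup.mem_subgroupOf] at hs
    rw [Subgroup.mem_comap, Subgroup.mem_subgroupOf]
    exact hAS1 a a.2 _ hs
  let F : A → ((S ⧸ S1.subgroupOf S) →* (S ⧸ S1.subgroupOf S)) := fun a =>
    QuotientGroup.map _ _ (f a) (hf a)
  have hF : ∀ (a : A) (s : S), F a (QuotientGroup.mk s) = QuotientGroup.mk (f a s) :=
    fun a s => rfl
  have h1 : F 1 = MonoidHom.id _ := by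
    refine MonoidHom.ext fun x => ?_
    obtain ⟨s, rfl⟩ := QuotientGroup.mk_surjective x
    rw [hF, MonoidHom.id_apply]
    congr 1
    apply Subtype.ext
    show ((1 : A) : Γ) * s * ((1 : A) : Γ)⁻¹ = s
    simp
  have h2 : ∀ a b, F (a * b) = (F a).comp (F b) := by
    intro a b
    refine MonoidHom.ext fun x => ?_
    obtain ⟨s, rfl⟩ := QuotientGroup.mk_surjective x
    rw [MonoidHom.comp_apply, hF, hF, hF]
    congr 1
    apply Subtype.ext
    show ((a * b : A) : Γ) * s * ((a * b : A) : Γ)⁻¹ = a * (b * s * (b : Γ)⁻¹) * (a : Γ)⁻¹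
    rw [Subgroup.coe_mul]; group
  refine ⟨hN, ⟨⟨fun a => (F a : Monoid.End (S ⧸ S1.subgroupOf S)), h1⟩, h2⟩, ?_⟩
  intro a s s' hs
  show F a (QuotientGroup.mk s) = _
  rw [hF]
  congr 1
  exact Subtype.ext hs.symm

/-- one step of the chain: elements acting trivially on `S / S1` -/
theorem agree_of_trivial [Fact p.Prime] {C1 S S1 C : Subgroup Γ} (h : Cop p C1 S C)
    (hS1S : S1 ≤ S) (hn : ∀ s ∈ S, ∀ t ∈ S1, s * t * s⁻¹ ∈ S1)
    (hC1 : ∀ g ∈ C1, ∀ s ∈ S1, s * g = g * s) {τ : C1 → ℂ} (hτ : IsIrrCharacter C1 τ)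
    (hτS : SInv S C1 τ) {β : C → ℂ} (hβ : IsIrrCharacter C β)
    (hP : PP p (Subgroup.inclusion h.le) τ β) {a b : Γ} (hb : ¬ p ∣ orderOf b)
    (haS : ∀ s ∈ S, a⁻¹ * s * a ∈ S)
    (hbS : ∀ s ∈ S, b * s * b⁻¹ ∈ S) (hbS1 : ∀ s ∈ S1, b * s * b⁻¹ ∈ S1)
    (htriv : ∀ n : ℤ, ∀ s ∈ S, b ^ n * s * (b ^ n)⁻¹ * s⁻¹ ∈ S1) (hab : ⁅a, b⁆ ∈ C)
    (ha : Fix C1.subtype τ a) (hb' : Fix C1.subtype τ b) :
    ∃ w, WC C1.subtype τ a b w ∧ WC C.subtype β a b w := by
  have hcoprime : (Nat.card (Subgroup.zpowers b)).Coprime (Nat.card S) := by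
    obtain ⟨n, hn⟩ := IsPGroup.iff_card.1 h.pS
    rw [hn, Nat.card_zpowers]
    exact (Nat.Coprime.pow_left n (((Fact.out : p.Prime).coprime_iff_not_dvd).2 hb)).symm
  have hle1 : Subgroup.zpowers b ≤ Subgroup.normalizer (S : Set Γ) := by
    rw [Subgroup.zpowers_le]; exact mem_normalizer_of_conj hbS
  have hle2 : Subgroup.zpowers b ≤ Subgroup.normalizer (S1 : Set Γ) := by
    rw [Subgroup.zpowers_le]; exact mem_normalizer_of_conj hbS1
  have hle3 : S ≤ Subgroup.normalizer (S1 : Set Γ) := fun s hs =>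
    mem_normalizer_of_conj (hn s hs)
  have hsolv : Group.IsSolvable (Subgroup.zpowers b) ∨ Group.IsSolvable S := by
    right
    have : Group.IsNilpotent S := h.pS.isNilpotent
    infer_instance
  have hsplit : ∀ s ∈ S, ∃ c ∈ S ⊓ Subgroup.centralizer (Subgroup.zpowers b : Set Γ),
      s⁻¹ * c ∈ S1 := by
    intro s hs
    refine Cfsg.Agent.S0022.result (Subgroup.zpowers b) S hle1 hcoprime hsolv S1 hS1S hle3 hle2 s hs
      ?_
    rintro _ ⟨n, rfl⟩
    exact htriv n s hs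
  let S2 : Subgroup Γ := S ⊓ Subgroup.centralizer ({b} : Set Γ)
  have hS2 : ∀ s, s ∈ S2 ↔ s ∈ S ∧ s * b = b * s := by
    intro s
    show s ∈ S ⊓ Subgroup.centralizer ({b} : Set Γ) ↔ _
    rw [Subgroup.mem_inf, Subgroup.mem_centralizer_iff]
    simp only [Set.mem_singleton_iff, forall_eq]
    exact ⟨fun h => ⟨h.1, h.2.symm⟩, fun h => ⟨h.1, h.2.symm⟩⟩
  have h2 : Cop p C1 S2 C := by
    refine ⟨fun s hs => h.nrm s ((hS2 s).1 hs).1, h.ndvd, h.pS.to_le inf_le_left, ?_⟩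
    ext g
    rw [Subgroup.mem_inf, Subgroup.mem_centralizer_iff]
    constructor
    · intro hg
      exact ⟨h.le hg, fun s hs => (h.mem_iff.1 hg).2 s ((hS2 s).1 hs).1⟩
    · rintro ⟨hg1, hg2⟩
      refine h.mem_iff.2 ⟨hg1, fun s hs => ?_⟩
      obtain ⟨c, hc, hsc⟩ := hsplit s hs
      have hcb : c * b = b * c := by
        have := (Subgroup.mem_centralizer_iff.1 hc.2) b (Subgroup.mem_zpowers b)
        exact this.symm
      have h3 : c * g = g * c := hg2 c ((hS2 c).2 ⟨hc.1, hcb⟩)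
      have h4 : (s⁻¹ * c) * g = g * (s⁻¹ * c) := hC1 g hg1 _ hsc
      have h5 : s⁻¹ * g * c = g * s⁻¹ * c := by
        rw [mul_assoc, ← h3, ← mul_assoc, h4, mul_assoc]
      have h6 : s⁻¹ * g = g * s⁻¹ := mul_right_cancel h5
      calc s * g = s * (g * s⁻¹) * s := by group
        _ = s * (s⁻¹ * g) * s := by rw [h6]
        _ = g * s := by group
  have hP2 : PP p (Subgroup.inclusion h2.le) τ β := hP
  have habS : ∀ s ∈ S, s * ⁅a, b⁆ = ⁅a, b⁆ * s := (h.mem_iff.1 hab).2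
  refine step h2 hb (fun s hs => ((hS2 s).1 hs).2) ?_ hab hτ (fun s hs => hτS s ((hS2 s).1 hs).1)
    ha hb' hβ hP2
  intro s hs
  obtain ⟨hs1, hs2⟩ := (hS2 s).1 hs
  refine (hS2 _).2 ⟨haS s hs1, ?_⟩
  -- `a⁻¹ s a` commutes with `b` iff `s` commutes with `a b a⁻¹ = ⁅a, b⁆ b`
  have h3 : s * (⁅a, b⁆ * b) = (⁅a, b⁆ * b) * s := by
    rw [← mul_assoc, habS s hs1, mul_assoc, hs2, mul_assoc]
  have h4 : a * b * a⁻¹ = ⁅a, b⁆ * b := by rw [commutatorElement_def]; group
  rw [← h4] at h3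
  calc a⁻¹ * s * a * b = a⁻¹ * (s * (a * b * a⁻¹)) * a := by group
    _ = a⁻¹ * ((a * b * a⁻¹) * s) * a := by rw [h3]
    _ = b * (a⁻¹ * s * a) := by group

theorem chain [Fact p.Prime] {K : Subgroup Γ} (A : Subgroup Γ) (hAp : ∀ a ∈ A, ¬ p ∣ orderOf a)
    {τ : K → ℂ} (hτ : IsIrrCharacter K τ) (hAτ : ∀ a ∈ A, Fix K.subtype τ a) (n : ℕ) :
    ∀ S C : Subgroup Γ, Nat.card S ≤ n → ∀ h : Cop p K S C, SInv S K τ →
      (∀ a ∈ A, ∀ s ∈ S, a * s * a⁻¹ ∈ S) → (∀ a ∈ A, ∀ b ∈ A, ⁅a, b⁆ ∈ C) →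
      ∀ β : C → ℂ, IsIrrCharacter C β → PP p (Subgroup.inclusion h.le) τ β →
      ∀ a ∈ A, ∀ b ∈ A, ∃ w, WC K.subtype τ a b w ∧ WC C.subtype β a b w := by
  have hp : p.Prime := Fact.out
  induction n with
  | zero =>
    intro S C hcard
    exact absurd hcard (by have := Nat.card_pos (α := S); omega)
  | succ n ih =>
    intro S C hcard h hτS hAS hcomm β hβ hP a ha b hb
    by_cases hS : S = ⊥
    · -- trivial group
      have hCK : C = K := by
        rw [h.eq, hS]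
        refine inf_eq_left.2 fun g _ => ?_
        rw [Subgroup.mem_centralizer_iff]
        intro s hs
        rw [Subgroup.mem_bot.1 hs, one_mul, mul_one]
      subst hCK
      have hβτ : β = τ := by
        have h1 := hP.over
        letI := Fintype.ofFinite C
        rw [over_iff] at h1
        by_contra hne
        exact h1 (classInner_irr_ne hτ hβ (Ne.symm hne))
      subst hβτ
      obtain ⟨w, hw⟩ := exists_WC (i := C.subtype) Subtype.val_injective hβ (hAτ a ha) (hAτ b hb)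
        (c := ⟨⁅a, b⁆, hcomm a ha b hb⟩) rfl
      exact ⟨w, hw, hw⟩
    -- choose `S1`
    let P : Subgroup Γ → Prop := fun T => T < S ∧ (∀ s ∈ S, ∀ t ∈ T, s * t * s⁻¹ ∈ T) ∧
      (∀ a ∈ A, ∀ t ∈ T, a * t * a⁻¹ ∈ T)
    have hPbot : P ⊥ := by
      refine ⟨bot_lt_iff_ne_bot.2 hS, fun s _ t ht => ?_, fun a _ t ht => ?_⟩
      · rw [Subgroup.mem_bot.1 ht]; simp
      · rw [Subgroup.mem_bot.1 ht]; simp
    obtain ⟨⟨S1, hS1⟩, hmax⟩ : ∃ T : {T : Subgroup Γ // P T}, ∀ T' : {T : Subgroup Γ // P T},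
        Nat.card T'.1 ≤ Nat.card T.1 := by
      have : Nonempty {T : Subgroup Γ // P T} := ⟨⟨⊥, hPbot⟩⟩
      exact Finite.exists_max (fun T : {T : Subgroup Γ // P T} => Nat.card T.1)
    obtain ⟨hlt, hS1S, hS1A⟩ := hS1
    have hmax' : ∀ T, S1 ≤ T → P T → T = S1 := fun T hT hPT =>
      (Subgroup.eq_of_le_of_card_ge hT (hmax ⟨T, hPT⟩)).symm
    -- the group `C1`
    let C1 : Subgroup Γ := K ⊓ Subgroup.centralizer (S1 : Set Γ)
    have h1 : Cop p K S1 C1 := ⟨fun s hs => h.nrm s (hlt.le hs), h.ndvd, h.pS.to_le hlt.le, rfl⟩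
    have hCC1 : C ≤ C1 := by
      intro g hg
      obtain ⟨hg1, hg2⟩ := h.mem_iff.1 hg
      exact h1.mem_iff.2 ⟨hg1, fun s hs => hg2 s (hlt.le hs)⟩
    have hcard1 : Nat.card S1 ≤ n := by
      have : Nat.card S1 < Nat.card S := by
        refine lt_of_le_of_ne (Subgroup.card_le_of_le hlt.le) fun he => ?_
        exact hlt.ne (Subgroup.eq_of_le_of_card_ge hlt.le he.ge)
      omega
    have hτS1 : SInv S1 K τ := fun s hs => hτS s (hlt.le hs)
    obtain ⟨τ1, hτ1, hPτ1, hu1⟩ := star h1 hτ hτS1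
    have hih := ih S1 C1 hcard1 h1 hτS1 hS1A (fun a ha b hb => hCC1 (hcomm a ha b hb)) τ1 hτ1 hPτ1
    have hSK : ∀ s ∈ S, Fix K.subtype τ s := fun s hs =>
      ⟨fun n => ⟨⟨_, h.nrm s hs n n.2⟩, rfl⟩, fun n n' hn => hτS s hs n n' hn⟩
    have hS1S' : ∀ s ∈ S, ∀ t ∈ S1, s⁻¹ * t * s ∈ S1 := fun s hs t ht => by
      have := hS1S s⁻¹ (S.inv_mem hs) t ht
      rwa [inv_inv] at this
    have hfixS : ∀ s ∈ S, Fix C1.subtype τ1 s := fun s hs =>
      fix_star h1 hτ hτS1 hτ1 hPτ1 (hSK s hs) (h1.nrm_C (h.nrm s hs) (hS1S' s hs))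
    have hAK : ∀ a ∈ A, ∀ g ∈ K, a * g * a⁻¹ ∈ K := fun a ha => conj_mem_of_fix (hAτ a ha)
    have hfixA : ∀ a ∈ A, Fix C1.subtype τ1 a := fun a ha =>
      fix_star h1 hτ hτS1 hτ1 hPτ1 (hAτ a ha) (h1.nrm_C (hAK a ha) (fun t ht => by
        have := hS1A a⁻¹ (A.inv_mem ha) t ht
        rwa [inv_inv] at this))
    have h2 : Cop p C1 S C := by
      refine ⟨fun s hs => conj_mem_of_fix (hfixS s hs), fun hd => h.ndvd (hd.trans
        (Subgroup.card_dvd_of_le h1.le)), h.pS, ?_⟩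
      ext g
      rw [Subgroup.mem_inf, Subgroup.mem_centralizer_iff]
      constructor
      · intro hg
        exact ⟨hCC1 hg, (h.mem_iff.1 hg).2⟩
      · rintro ⟨hg1, hg2⟩
        exact h.mem_iff.2 ⟨h1.le hg1, hg2⟩
    have hτ1S : SInv S C1 τ1 := fun s hs g g' hg => (hfixS s hs).inv g g' hg
    have hP1 : PP p (Subgroup.inclusion h2.le) τ1 β := by
      rw [← PP_comp_iff hp (Subgroup.inclusion h1.le) (Subgroup.inclusion h2.le)
        (isIrr_isCharacter hτ) hβ hτ1 hPτ1 hu1]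
      exact hP
    have hfixAC : ∀ a ∈ A, Fix C.subtype β a := fun a ha =>
      fix_star h2 hτ1 hτ1S hβ hP1 (hfixA a ha) (h2.nrm_C (conj_mem_of_fix (hfixA a ha))
        (fun t ht => by
          have := hAS a⁻¹ (A.inv_mem ha) t ht
          rwa [inv_inv] at this))
    -- it is enough to compare `τ1` and `β`
    suffices hag : ∃ w, WC C1.subtype τ1 a b w ∧ WC C.subtype β a b w by
      obtain ⟨w, hw1, hw2⟩ := hag
      obtain ⟨w', hw3, hw4⟩ := hih a ha b hb
      have : w' = w := hw4.unique Subtype.val_injective hw1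
      subst this
      exact ⟨w', hw3, hw2⟩
    -- the action on `S / S1`
    obtain ⟨hN, Φ, hΦ⟩ := exists_action S S1 A hS1S hAS hS1A
    have hPT : ∀ W : Subgroup (S ⧸ S1.subgroupOf S), W.Normal → (∀ a, ∀ v ∈ W, Φ a v ∈ W) →
        W = ⊥ ∨ W = ⊤ := by
      intro W hW hWA
      let T : Subgroup Γ := (W.comap (QuotientGroup.mk' (S1.subgroupOf S))).map S.subtype
      have hT : ∀ g, g ∈ T ↔ ∃ hg : g ∈ S, (QuotientGroup.mk ⟨g, hg⟩ : S ⧸ S1.subgroupOf S) ∈ W := by
        intro g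
        constructor
        · rintro ⟨s, hs, rfl⟩
          exact ⟨s.2, hs⟩
        · rintro ⟨hg, hgW⟩
          exact ⟨⟨g, hg⟩, hgW, rfl⟩
      have hS1T : S1 ≤ T := by
        intro g hg
        rw [hT]
        refine ⟨hlt.le hg, ?_⟩
        have : (QuotientGroup.mk ⟨g, hlt.le hg⟩ : S ⧸ S1.subgroupOf S) = 1 := by
          rw [QuotientGroup.eq_one_iff, Subgroup.mem_subgroupOf]; exact hg
        rw [this]; exact W.one_mem
      have hTS : T ≤ S := fun g hg => ((hT g).1 hg).1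
      by_cases hTe : T = S
      · right
        rw [eq_top_iff]
        intro x _
        obtain ⟨s, rfl⟩ := QuotientGroup.mk_surjective x
        have : (s : Γ) ∈ T := by rw [hTe]; exact s.2
        obtain ⟨hg, hgW⟩ := (hT _).1 this
        exact hgW
      · left
        have hTP : P T := by
          refine ⟨lt_of_le_of_ne hTS hTe, ?_, ?_⟩
          · intro s hs t ht
            obtain ⟨htS, htW⟩ := (hT t).1 ht
            rw [hT]
            refine ⟨S.mul_mem (S.mul_mem hs htS) (S.inv_mem hs), ?_⟩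
            have := hW.conj_mem _ htW (QuotientGroup.mk ⟨s, hs⟩)
            exact this
          · intro a ha t ht
            obtain ⟨htS, htW⟩ := (hT t).1 ht
            rw [hT]
            refine ⟨hAS a ha t htS, ?_⟩
            have := hWA ⟨a, ha⟩ _ htW
            rw [hΦ ⟨a, ha⟩ ⟨t, htS⟩ ⟨a * t * a⁻¹, hAS a ha t htS⟩ rfl] at this
            exact this
        have hTS1 := hmax' T hS1T hTP
        rw [eq_bot_iff]
        intro x hx
        obtain ⟨s, rfl⟩ := QuotientGroup.mk_surjective x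
        rw [Subgroup.mem_bot, QuotientGroup.eq_one_iff, Subgroup.mem_subgroupOf]
        rw [← hTS1, hT]
        exact ⟨s.2, hx⟩
    have hnt : Nontrivial (S ⧸ S1.subgroupOf S) := by
      by_contra hcon
      rw [not_nontrivial_iff_subsingleton] at hcon
      apply hlt.not_ge
      intro s hs
      have : (QuotientGroup.mk ⟨s, hs⟩ : S ⧸ S1.subgroupOf S) = 1 := Subsingleton.elim _ _
      rw [QuotientGroup.eq_one_iff, Subgroup.mem_subgroupOf] at this
      exact this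
    have hsolv : Group.IsSolvable (S ⧸ S1.subgroupOf S) := by
      have : Group.IsNilpotent S := h.pS.isNilpotent
      infer_instance
    have hcommQ : ∀ x y : S ⧸ S1.subgroupOf S, x * y = y * x := by
      have h3 := hPT (commutator (S ⧸ S1.subgroupOf S)) inferInstance (fun a v hv => by
        let φ : (S ⧸ S1.subgroupOf S) →* (S ⧸ S1.subgroupOf S) := Φ a
        have h4 : (commutator (S ⧸ S1.subgroupOf S)).map φ ≤
            commutator (S ⧸ S1.subgroupOf S) := by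
          rw [commutator_def, Subgroup.map_commutator]
          exact Subgroup.commutator_mono le_top le_top
        exact h4 ⟨v, hv, rfl⟩)
      have h4 : commutator (S ⧸ S1.subgroupOf S) = ⊥ := by
        refine h3.resolve_right fun h5 => ?_
        exact (Group.IsSolvable.commutator_lt_top_of_nontrivial (G := S ⧸ S1.subgroupOf S)).ne h5
      intro x y
      rw [← commutatorElement_eq_one_iff_mul_comm, ← Subgroup.mem_bot, ← h4]
      exact Subgroup.commutator_mem_commutator (Subgroup.mem_top x) (Subgroup.mem_top y)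
    have hΦcomm : ∀ a b, Φ a * Φ b = Φ b * Φ a := by
      intro a b
      rw [← map_mul, ← map_mul]
      refine MonoidHom.ext fun x => ?_
      obtain ⟨s, rfl⟩ := QuotientGroup.mk_surjective x
      refine (hΦ (a * b) s ⟨_, hAS _ (a * b).2 s s.2⟩ rfl).trans
        (Eq.trans ?_ (hΦ (b * a) s ⟨_, hAS _ (b * a).2 s s.2⟩ rfl).symm)
      congr 1
      apply Subtype.ext
      show ((a * b : A) : Γ) * s * ((a * b : A) : Γ)⁻¹ = ((b * a : A) : Γ) * s * ((b * a : A) : Γ)⁻¹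
      have h3 : ((a * b : A) : Γ) = ⁅(a : Γ), (b : Γ)⁆ * ((b * a : A) : Γ) := by
        rw [Subgroup.coe_mul, Subgroup.coe_mul, commutatorElement_def]; group
      have h4 := (h.mem_iff.1 (hcomm a a.2 b b.2)).2 _ (hAS _ (b * a).2 s s.2)
      rw [h3]
      calc ⁅(a : Γ), (b : Γ)⁆ * ((b * a : A) : Γ) * s * (⁅(a : Γ), (b : Γ)⁆ * ((b * a : A) : Γ))⁻¹
          = ⁅(a : Γ), (b : Γ)⁆ * (((b * a : A) : Γ) * s * ((b * a : A) : Γ)⁻¹) *
            ⁅(a : Γ), (b : Γ)⁆⁻¹ := by group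
        _ = (((b * a : A) : Γ) * s * ((b * a : A) : Γ)⁻¹) * ⁅(a : Γ), (b : Γ)⁆ *
            ⁅(a : Γ), (b : Γ)⁆⁻¹ := by rw [h4]
        _ = _ := by group
    obtain ⟨g, hg⟩ := Cyc.exists_generator hcommQ Φ hΦcomm (fun W hW =>
      hPT W ⟨fun n hn x => by rw [hcommQ x n, mul_inv_cancel_right]; exact hn⟩ hW)
    -- agreement with elements acting trivially
    have htrivB : ∀ c : A, Φ c = 1 → ∀ d ∈ A, ∃ w, WC C1.subtype τ1 d c w ∧ WC C.subtype β d c w := by
      intro c hc d hd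
      refine agree_of_trivial h2 hlt.le hS1S (fun g hg s hs => (h1.mem_iff.1 hg).2 s hs) hτ1 hτ1S hβ
        hP1 (hAp c c.2) (fun s hs => ?_) (hAS c c.2) (hS1A c c.2) ?_ (hcomm d hd c c.2)
        (hfixA d hd) (hfixA c c.2)
      · have := hAS d⁻¹ (A.inv_mem hd) s hs
        rwa [inv_inv] at this
      · intro n s hs
        have h3 : Φ (c ^ n) = 1 := by
          have h4 : c ^ n ∈ Subgroup.zpowers c := ⟨n, rfl⟩
          rw [← mem_powers_iff_mem_zpowers] at h4
          obtain ⟨m, hm⟩ := h4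
          have hm' : c ^ m = c ^ n := hm
          rw [← hm', map_pow, hc, one_pow]
        have h5 := hΦ (c ^ n) ⟨s, hs⟩ ⟨_, hAS _ (c ^ n).2 s hs⟩ rfl
        rw [h3] at h5
        have h6 : (QuotientGroup.mk ⟨s, hs⟩ : S ⧸ S1.subgroupOf S) =
          QuotientGroup.mk ⟨_, hAS _ (c ^ n).2 s hs⟩ := h5
        rw [QuotientGroup.eq, Subgroup.mem_subgroupOf] at h6
        have h7 : s⁻¹ * (((c ^ n : A) : Γ) * s * ((c ^ n : A) : Γ)⁻¹) ∈ S1 := h6
        have h8 := hS1S s hs _ h7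
        rw [Subgroup.coe_zpow] at h8
        have h9 : s * (s⁻¹ * ((c : Γ) ^ n * s * ((c : Γ) ^ n)⁻¹)) * s⁻¹ =
          (c : Γ) ^ n * s * ((c : Γ) ^ n)⁻¹ * s⁻¹ := by group
        rwa [h9] at h8
    -- decomposition
    have hdec : ∀ c : A, ∃ (n : ℕ) (d : A), Φ d = 1 ∧ c = g ^ n * d := by
      intro c
      obtain ⟨n, hn⟩ := hg c
      refine ⟨n, (g ^ n)⁻¹ * c, ?_, by group⟩
      rw [map_mul, hn, ← map_pow, ← map_mul, inv_mul_cancel, map_one]
    obtain ⟨n1, d1, hd1, ha1⟩ := hdec ⟨a, ha⟩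
    obtain ⟨n2, d2, hd2, hb2⟩ := hdec ⟨b, hb⟩
    have ha1' : a = (g : Γ) ^ n1 * d1 := congrArg (fun x : A => (x : Γ)) ha1
    have hb2' : b = (g : Γ) ^ n2 * d2 := congrArg (fun x : A => (x : Γ)) hb2
    have hgn : ∀ n : ℕ, (g : Γ) ^ n ∈ A := fun n => A.pow_mem g.2 n
    obtain ⟨w1, hw1, hw1'⟩ := htrivB d2 hd2 _ (hgn n1)
    obtain ⟨w2, hw2, hw2'⟩ := htrivB d1 hd1 _ (hgn n2)
    obtain ⟨w3, hw3, hw3'⟩ := htrivB d2 hd2 _ d1.2
    have hgg : WC C1.subtype τ1 ((g : Γ) ^ n1) ((g : Γ) ^ n2) 1 := by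
      have h3 := WC_self (i := C1.subtype) Subtype.val_injective hτ1 (hfixA g g.2)
      have h4 := WC.npow_left (i := C1.subtype) Subtype.val_injective (hfixA g g.2) h3 n1
      have h5 := WC.npow_right (i := C1.subtype) Subtype.val_injective (hfixA _ (hgn n1)) h4 n2
      rwa [one_pow, one_pow] at h5
    have hgg' : WC C.subtype β ((g : Γ) ^ n1) ((g : Γ) ^ n2) 1 := by
      have h3 := WC_self (i := C.subtype) Subtype.val_injective hβ (hfixAC g g.2)
      have h4 := WC.npow_left (i := C.subtype) Subtype.val_injective (hfixAC g g.2) h3 n1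
      have h5 := WC.npow_right (i := C.subtype) Subtype.val_injective (hfixAC _ (hgn n1)) h4 n2
      rwa [one_pow, one_pow] at h5
    rw [ha1', hb2']
    refine ⟨1 * w1 * (w2⁻¹ * w3), ?_, ?_⟩
    · exact (WC.mul_right (i := C1.subtype) Subtype.val_injective hgg hw1).mul_left
        Subtype.val_injective (WC.mul_right (i := C1.subtype) Subtype.val_injective hw2.symm hw3)
    · exact (WC.mul_right (i := C.subtype) Subtype.val_injective hgg' hw1').mul_left
        Subtype.val_injective (WC.mul_right (i := C.subtype) Subtype.val_injective hw2'.symm hw3')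

end Cfsg.Agent.H676.RM.Chain
end

-- part: H676/RM/Corr
section
/-!
# The correspondence between characters of `K S` and of `C S`

`Sp D ξ ξ'` : `ξ` (resp. `ξ'`) is irreducible on `K` (resp. on `C`), the restrictions correspond under the
Glauberman correspondence, and the two linear characters of `S` are equal.
-/

set_option autoImplicit false
set_option linter.style.haveILetI false
set_option linter.unusedSectionVars false

namespace Cfsg.Agent.H676.RM.Corr

open Cfsg Module Cfsg.Agent.H676.RM.Star Cfsg.Agent.H676.RM.Lc Cfsg.Agent.H676.RM.PairChar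
open Cfsg.Agent.Characters.Core Cfsg.Agent.H672 Cfsg.Agent.CharactersDeep.ExtUnique
open scoped ComplexConjugate

variable {Γ : Type*} [Group Γ] [Finite Γ] {p : ℕ}

/-- `M = K S`, `M' = C S`. -/
structure Data (p : ℕ) (K S C M M' : Subgroup Γ) : Prop where
  cop : Cop p K S C
  KM : K ≤ M
  SM : S ≤ M
  M_le : M ≤ K ⊔ S
  CM : C ≤ M'
  SM' : S ≤ M'
  M'_le : M' ≤ C ⊔ S

variable {K S C M M' : Subgroup Γ}

omit [Finite Γ] in
theorem cop_fix (h : Cop p K S C) : Cop p C S C where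
  nrm := fun s hs g hg => by
    have := (h.mem_iff.1 hg).2 s hs
    rw [this, mul_inv_cancel_right]; exact hg
  ndvd := fun hd => h.ndvd (hd.trans (Subgroup.card_dvd_of_le h.le))
  pS := h.pS
  eq := by
    ext g
    rw [Subgroup.mem_inf, Subgroup.mem_centralizer_iff]
    exact ⟨fun hg => ⟨hg, (h.mem_iff.1 hg).2⟩, fun hg => hg.1⟩

theorem sd_of (h : Cop p K S C) (hKM : K ≤ M) (hSM : S ≤ M) (hM : M ≤ K ⊔ S) :
    SD p (Subgroup.inclusion hKM) (Subgroup.inclusion hSM) := by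
  have hSK : S ≤ Subgroup.normalizer (K : Set Γ) := fun s hs =>
    Cfsg.Agent.H676.RM.Step.mem_normalizer_of_conj (h.nrm s hs)
  have hMK : M ≤ Subgroup.normalizer (K : Set Γ) :=
    hM.trans (sup_le Subgroup.le_normalizer hSK)
  refine ⟨Subgroup.inclusion_injective _, Subgroup.inclusion_injective _, ?_, h.ndvd, h.pS, ?_⟩
  · rw [Subgroup.inclusion_range]
    exact H672.RM.normal_subgroupOf hMK
  · intro x
    have h1 := Subgroup.coe_mul_of_right_le_normalizer_left K S hSK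
    have h2 : (x : Γ) ∈ ((K ⊔ S : Subgroup Γ) : Set Γ) := hM x.2
    rw [h1] at h2
    obtain ⟨k, hk, s, hs, hks⟩ := h2
    exact ⟨⟨k, hk⟩, ⟨s, hs⟩, Subtype.ext hks.symm⟩

theorem Data.sd (D : Data p K S C M M') : SD p (Subgroup.inclusion D.KM) (Subgroup.inclusion D.SM) :=
  sd_of D.cop D.KM D.SM D.M_le

theorem Data.sd' (D : Data p K S C M M') :
    SD p (Subgroup.inclusion D.CM) (Subgroup.inclusion D.SM') :=
  sd_of (cop_fix D.cop) D.CM D.SM' D.M'_le

/-- The correspondence. -/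
structure Sp (D : Data p K S C M M') (ξ : M → ℂ) (ξ' : M' → ℂ) : Prop where
  irr : IsIrrCharacter M ξ
  irr' : IsIrrCharacter M' ξ'
  res : IsIrrCharacter K (ξ ∘ Subgroup.inclusion D.KM)
  res' : IsIrrCharacter C (ξ' ∘ Subgroup.inclusion D.CM)
  pp : PP p (Subgroup.inclusion D.cop.le) (ξ ∘ Subgroup.inclusion D.KM)
    (ξ' ∘ Subgroup.inclusion D.CM)
  lc : ∃ l : S →* ℂˣ, LC (Subgroup.inclusion D.SM) ξ l ∧ LC (Subgroup.inclusion D.SM') ξ' l

variable [Fact p.Prime]

theorem Data.sinv (D : Data p K S C M M') {ξ : M → ℂ} (hξ : IsIrrCharacter M ξ) :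
    SInv S K (ξ ∘ Subgroup.inclusion D.KM) := by
  intro s hs g g' hg
  have h1 : Subgroup.inclusion D.KM g' =
      ⟨s, D.SM hs⟩ * Subgroup.inclusion D.KM g * (⟨s, D.SM hs⟩ : M)⁻¹ := Subtype.ext hg
  rw [Function.comp_apply, Function.comp_apply, h1]
  exact isIrr_isClassFunction hξ _ _

theorem Data.ndvd (D : Data p K S C M M') {ξ : M → ℂ}
    (hr : IsIrrCharacter K (ξ ∘ Subgroup.inclusion D.KM)) : ¬ p ∣ charDegree ξ := by
  rw [← charDegree_comp_one (Subgroup.inclusion D.KM)]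
  exact not_dvd_charDegree D.cop.ndvd hr

theorem Data.ndvd' (D : Data p K S C M M') {ξ : M' → ℂ}
    (hr : IsIrrCharacter C (ξ ∘ Subgroup.inclusion D.CM)) : ¬ p ∣ charDegree ξ := by
  rw [← charDegree_comp_one (Subgroup.inclusion D.CM)]
  exact not_dvd_charDegree (cop_fix D.cop).ndvd hr

theorem Data.exists_right (D : Data p K S C M M') {ξ : M → ℂ} (hξ : IsIrrCharacter M ξ)
    (hr : IsIrrCharacter K (ξ ∘ Subgroup.inclusion D.KM)) : ∃ ξ', Sp D ξ ξ' := by
  obtain ⟨β, hβ, hP, -⟩ := star D.cop hr (D.sinv hξ)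
  obtain ⟨l, hl⟩ := exists_LC D.cop.pS (Subgroup.inclusion D.SM) hξ (D.ndvd hr)
  obtain ⟨ξ', h1, h2, h3⟩ := D.sd'.exists_ext hβ (fun s k k' hk => by
    congr 1
    apply Subtype.ext
    have h4 := congrArg (fun z : M' => (z : Γ)) hk
    have h5 : (k' : Γ) = s * k * (s : Γ)⁻¹ := h4
    rw [h5, (D.cop.mem_iff.1 k.2).2 s s.2, mul_inv_cancel_right]) l
  exact ⟨ξ', hξ, h1, hr, by rw [h2]; exact hβ, by rw [h2]; exact hP, l, hl, h3⟩

theorem Data.exists_left (D : Data p K S C M M') {ξ' : M' → ℂ} (hξ' : IsIrrCharacter M' ξ')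
    (hr : IsIrrCharacter C (ξ' ∘ Subgroup.inclusion D.CM)) : ∃ ξ, Sp D ξ ξ' := by
  obtain ⟨τ, hτ, hτS, hP⟩ := star_surj D.cop hr
  obtain ⟨l, hl⟩ := exists_LC D.cop.pS (Subgroup.inclusion D.SM') hξ' (D.ndvd' hr)
  obtain ⟨ξ, h1, h2, h3⟩ := D.sd.exists_ext hτ (fun s k k' hk => by
    have h4 := congrArg (fun z : M => (z : Γ)) hk
    exact hτS s s.2 k k' h4) l
  exact ⟨ξ, h1, hξ', by rw [h2]; exact hτ, hr, by rw [h2]; exact hP, l, h3, hl⟩

theorem Sp.unique_right {D : Data p K S C M M'} {ξ : M → ℂ} {ξ1 ξ2 : M' → ℂ} (h1 : Sp D ξ ξ1)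
    (h2 : Sp D ξ ξ2) : ξ1 = ξ2 := by
  obtain ⟨β, -, -, hu⟩ := star D.cop h1.res (D.sinv h1.irr)
  have h3 := hu _ h1.res' h1.pp
  have h4 := hu _ h2.res' h2.pp
  obtain ⟨l1, hl1, hl1'⟩ := h1.lc
  obtain ⟨l2, hl2, hl2'⟩ := h2.lc
  have h5 := hl1.unique D.cop.pS (D.ndvd h1.res) hl2
  subst h5
  exact D.sd'.ext_unique h1.irr' h2.irr' h1.res' (h4.trans h3.symm) hl1' hl2'

theorem Sp.unique_left {D : Data p K S C M M'} {ξ1 ξ2 : M → ℂ} {ξ' : M' → ℂ} (h1 : Sp D ξ1 ξ')
    (h2 : Sp D ξ2 ξ') : ξ1 = ξ2 := by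
  have h3 := star_inj D.cop h1.res h2.res (D.sinv h1.irr) (D.sinv h2.irr) h1.res' h1.pp h2.pp
  obtain ⟨l1, hl1, hl1'⟩ := h1.lc
  obtain ⟨l2, hl2, hl2'⟩ := h2.lc
  have h5 := hl1'.unique D.cop.pS (D.ndvd' h1.res') hl2'
  subst h5
  exact D.sd.ext_unique h1.irr h2.irr h1.res h3.symm hl1 hl2

theorem detChar_comp {X Y : Type*} [Group X] [Group Y] [Finite X] [Finite Y] (f : X →* Y)
    {χ : Y → ℂ} (hχ : IsIrrCharacter Y χ) (hf : Function.Surjective f) (x : X) :
    detChar (χ ∘ f) x = detChar χ (f x) := by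
  have h1 := isIrr_comp f hf hχ
  obtain ⟨n, ρ, hρ, rfl⟩ := hχ
  have h2 : (ρ.character ∘ f) = Representation.character (ρ.comp f) := rfl
  have h3 : Representation.IsIrreducible (ρ.comp f) := by
    obtain ⟨k, σ', hσ', hσ''⟩ := h1
    exact CharDeep.IrrEquiv.isIrreducible_of_character_eq σ' (ρ.comp f) hσ' hσ''
  rw [h2, detChar_of_rep _ h3, detChar_of_rep ρ hρ]
  rfl

theorem Sp.conj {D : Data p K S C M M'} {ξ : M → ℂ} {ξ' : M' → ℂ} (h : Sp D ξ ξ') {x : Γ}
    (hK : x ∈ Subgroup.normalizer (K : Set Γ)) (hS : x ∈ Subgroup.normalizer (S : Set Γ))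
    (hC : x ∈ Subgroup.normalizer (C : Set Γ))
    (hM : x ∈ Subgroup.normalizer (M : Set Γ)) (hM' : x ∈ Subgroup.normalizer (M' : Set Γ)) :
    Sp D (H672.RM.tw M x ξ) (H672.RM.tw M' x ξ') := by
  have e1 : H672.RM.tw M x ξ ∘ Subgroup.inclusion D.KM =
      H672.RM.tw K x (ξ ∘ Subgroup.inclusion D.KM) := by
    funext k
    rw [Function.comp_apply, H672.RM.tw_apply hM, H672.RM.tw_apply hK]
    rfl
  have e2 : H672.RM.tw M' x ξ' ∘ Subgroup.inclusion D.CM =
      H672.RM.tw C x (ξ' ∘ Subgroup.inclusion D.CM) := by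
    funext k
    rw [Function.comp_apply, H672.RM.tw_apply hM', H672.RM.tw_apply hC]
    rfl
  obtain ⟨l, hl, hl'⟩ := h.lc
  refine ⟨H672.RM.isIrr_tw hM h.irr, H672.RM.isIrr_tw hM' h.irr', ?_, ?_, ?_, ?_⟩
  · rw [e1]; exact H672.RM.isIrr_tw hK h.res
  · rw [e2]; exact H672.RM.isIrr_tw hC h.res'
  · rw [e1, e2]
    obtain ⟨m, hm, hpm⟩ := h.pp
    refine ⟨m, ?_, hpm⟩
    rw [← hm]
    symm
    refine mu_conj D.cop.le (x := x) (fun g hg => H672.RM.conj_mem_of_mem hC ⟨g, hg⟩) ?_ ?_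
    · intro g g' hg
      rw [H672.RM.tw_apply' hK _ g g' hg]
    · intro g g' hg
      rw [H672.RM.tw_apply' hC _ g g' hg]
  · let f : S →* S := (H672.RM.cj hS).toMonoidHom
    refine ⟨l.comp f, fun s => ?_, fun s => ?_⟩
    · rw [H672.RM.charDegree_tw hM, H672.RM.tw_eq_comp hM]
      have h1 := detChar_comp (H672.RM.cj hM).toMonoidHom h.irr (H672.RM.cj hM).surjective
        (Subgroup.inclusion D.SM s)
      have h2 : detChar (ξ ∘ (H672.RM.cj hM)) (Subgroup.inclusion D.SM s) =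
        detChar ξ (H672.RM.cj hM (Subgroup.inclusion D.SM s)) := h1
      rw [h2]
      exact hl (f s)
    · rw [H672.RM.charDegree_tw hM', H672.RM.tw_eq_comp hM']
      have h1 := detChar_comp (H672.RM.cj hM').toMonoidHom h.irr' (H672.RM.cj hM').surjective
        (Subgroup.inclusion D.SM' s)
      have h2 : detChar (ξ' ∘ (H672.RM.cj hM')) (Subgroup.inclusion D.SM' s) =
        detChar ξ' (H672.RM.cj hM' (Subgroup.inclusion D.SM' s)) := h1
      rw [h2]
      exact hl' (f s)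

theorem detChar_one {X : Type*} [Group X] [Finite X] {χ : X → ℂ} (hχ : IsIrrCharacter X χ)
    (z : X) : detChar χ z ^ orderOf z = 1 := by
  obtain ⟨δ, hδ⟩ := exists_hom_detChar hχ
  rw [hδ, ← Units.val_pow_eq_pow_val, ← map_pow, pow_orderOf_eq_one, map_one, Units.val_one]

/-- value on `S ∩ Z(M)` -/
theorem cc_eq_of_mem {X : Type*} [Group X] [Finite X] {j : S →* X} (hS : IsPGroup p S)
    {ξ : X → ℂ} (hξ : IsIrrCharacter X ξ) (hd : ¬ p ∣ charDegree ξ) {l : S →* ℂˣ}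
    (hl : LC j ξ l) {s : S} (hs : ∀ x, j s * x = x * j s) {ω : ℂ} (hω : CC ξ (j s) ω) :
    ω = l s := by
  obtain ⟨ω', h1, h2⟩ := exists_CC hξ hs
  obtain rfl := h1.unique hξ hω
  rw [hl s] at h2
  have h3 := h1.ne_zero hξ
  have h4 : (Units.mk0 ω' h3) ^ charDegree ξ = (l s) ^ charDegree ξ := by
    apply Units.ext
    rw [Units.val_pow_eq_pow_val, Units.val_pow_eq_pow_val, Units.val_mk0, h2]
  have h5 : (Units.mk0 ω' h3) * (l s)⁻¹ = 1 := by
    refine eq_one_of_pow (coprime_card hS hd) ?_ ?_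
    · rw [mul_pow, h4, inv_pow, mul_inv_cancel]
    · have h6 : (Units.mk0 ω' h3) ^ Nat.card S = 1 := by
        apply Units.ext
        rw [Units.val_pow_eq_pow_val, Units.val_mk0, Units.val_one]
        have h7 := h1.pow (Nat.card S)
        rw [← map_pow, pow_card_eq_one', map_one] at h7
        exact h7.unique hξ (fun x => by simp)
      rw [mul_pow, h6, inv_pow, ← map_pow, pow_card_eq_one', map_one, inv_one, mul_one]
  have h6 := mul_inv_eq_one.1 h5
  exact congrArg Units.val h6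

/-- **Compatibility with central elements.** -/
theorem Sp.cc {D : Data p K S C M M'} {ξ : M → ℂ} {ξ' : M' → ℂ} (h : Sp D ξ ξ') {z : Γ}
    (hz : z ∈ Subgroup.center Γ) (hzM : z ∈ M) (hzM' : z ∈ M') {a b : ℕ} (hab : Nat.Coprime a b)
    (ha : z ^ a ∈ C) (hb : z ^ b ∈ S) {ω ω' : ℂ} (hω : CC ξ ⟨z, hzM⟩ ω) (hω' : CC ξ' ⟨z, hzM'⟩ ω') :
    ω = ω' := by
  have hcz : ∀ n : ℕ, ∀ x : Γ, z ^ n * x = x * z ^ n := fun n x =>
    (Subgroup.mem_center_iff.1 (Subgroup.pow_mem _ hz n) x).symm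
  have h1 : ω ^ a = ω' ^ a := by
    have e1 : CC ξ (Subgroup.inclusion D.KM (Subgroup.inclusion D.cop.le ⟨z ^ a, ha⟩)) (ω ^ a) :=
      hω.pow a
    have e2 : CC ξ' (Subgroup.inclusion D.CM ⟨z ^ a, ha⟩) (ω' ^ a) := hω'.pow a
    exact CC.of_over h.res' h.pp.over e1.comp e2.comp
  have h2 : ω ^ b = ω' ^ b := by
    obtain ⟨l, hl, hl'⟩ := h.lc
    have e1 := cc_eq_of_mem D.cop.pS h.irr (D.ndvd h.res) hl (s := ⟨z ^ b, hb⟩)
      (fun x => Subtype.ext (hcz b x)) (hω.pow b)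
    have e2 := cc_eq_of_mem D.cop.pS h.irr' (D.ndvd' h.res') hl' (s := ⟨z ^ b, hb⟩)
      (fun x => Subtype.ext (hcz b x)) (hω'.pow b)
    rw [e1, e2]
  have h3 := hω.ne_zero h.irr
  have h4 := hω'.ne_zero h.irr'
  have h5 : (Units.mk0 ω h3) * (Units.mk0 ω' h4)⁻¹ = 1 := by
    refine eq_one_of_pow hab ?_ ?_
    · rw [mul_pow, inv_pow, mul_inv_eq_one]
      exact Units.ext h1
    · rw [mul_pow, inv_pow, mul_inv_eq_one]
      exact Units.ext h2
  exact congrArg Units.val (mul_inv_eq_one.1 h5)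

end Cfsg.Agent.H676.RM.Corr
end
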