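import Mathlib
import Cfsg.Agent.H676.RM.Corr
import Cfsg.Agent.H676.RM.Grp
set_option linter.all false

-- part: H676/RM/Fiber
section
/-!
# The numbers of characters over corresponding characters of `K S` and `C S` agree

`fiber` : the Gallagher count.
-/

set_option autoImplicit false
set_option linter.style.haveILetI false
set_option linter.unusedSectionVars false

namespace Cfsg.Agent.H676.RM.Fiber

open Cfsg Module Cfsg.Agent.H676.RM.Star Cfsg.Agent.H676.RM.Lc Cfsg.Agent.H676.RM.PairChar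
open Cfsg.Agent.H676.RM.Corr Cfsg.Agent.H676.RM.Chain Cfsg.Agent.H672.RM
open Cfsg.Agent.Characters.Core Cfsg.Agent.H672 Cfsg.Agent.CharactersDeep.ExtUnique
open scoped ComplexConjugate commutatorElement

variable {Γ : Type*} [Group Γ] {p : ℕ} {K S C M M' : Subgroup Γ}

theorem comm_closure {T C : Subgroup Γ} (hCn : ∀ t ∈ T, ∀ c ∈ C, t * c * t⁻¹ ∈ C) (b : Γ)
    (s : Set Γ) (hs : s ⊆ T) (h : ∀ a ∈ s, ⁅a, b⁆ ∈ C) : ∀ a ∈ Subgroup.closure s, ⁅a, b⁆ ∈ C := by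
  have key : ∀ a ∈ Subgroup.closure s, a ∈ T ∧ ⁅a, b⁆ ∈ C := by
    intro a ha
    induction ha using Subgroup.closure_induction with
    | mem x hx => exact ⟨hs hx, h x hx⟩
    | one => exact ⟨T.one_mem, by simp⟩
    | mul x y _ _ hx hy =>
      refine ⟨T.mul_mem hx.1 hy.1, ?_⟩
      have e : ⁅x * y, b⁆ = x * ⁅y, b⁆ * x⁻¹ * ⁅x, b⁆ := by
        simp only [commutatorElement_def]; group
      rw [e]
      exact C.mul_mem (hCn x hx.1 _ hy.2) hx.2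
    | inv x _ hx =>
      refine ⟨T.inv_mem hx.1, ?_⟩
      have e : ⁅x⁻¹, b⁆ = x⁻¹ * ⁅x, b⁆⁻¹ * x⁻¹⁻¹ := by
        simp only [commutatorElement_def]; group
      rw [e]
      exact hCn _ (T.inv_mem hx.1) _ (C.inv_mem hx.2)
  exact fun a ha => (key a ha).2

theorem comm_closure_pair {T C : Subgroup Γ} (hCn : ∀ t ∈ T, ∀ c ∈ C, t * c * t⁻¹ ∈ C) {x y : Γ}
    (hx : x ∈ T) (hy : y ∈ T) (hxy : ⁅x, y⁆ ∈ C) :
    ∀ a ∈ Subgroup.closure {x, y}, ∀ b ∈ Subgroup.closure {x, y}, ⁅a, b⁆ ∈ C := by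
  have hs : ({x, y} : Set Γ) ⊆ T := by
    rintro z (rfl | rfl)
    exacts [hx, hy]
  have hyx : ⁅y, x⁆ ∈ C := by
    rw [← commutatorElement_inv]; exact C.inv_mem hxy
  have h1 : ∀ a ∈ Subgroup.closure {x, y}, ⁅a, y⁆ ∈ C := by
    refine comm_closure hCn y _ hs ?_
    rintro z (rfl | rfl)
    · exact hxy
    · rw [commutatorElement_self]; exact C.one_mem
  have h2 : ∀ a ∈ Subgroup.closure {x, y}, ⁅a, x⁆ ∈ C := by
    refine comm_closure hCn x _ hs ?_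
    rintro z (rfl | rfl)
    · rw [commutatorElement_self]; exact C.one_mem
    · exact hyx
  intro a ha b hb
  rw [← commutatorElement_inv]
  refine C.inv_mem (comm_closure hCn a _ hs ?_ b hb)
  rintro z (rfl | rfl)
  · rw [← commutatorElement_inv]; exact C.inv_mem (h2 a ha)
  · rw [← commutatorElement_inv]; exact C.inv_mem (h1 a ha)

variable [Finite Γ]

theorem fix_of_stab {U : Subgroup Γ} (hMU : M ≤ U) {ξ : M → ℂ} {t : U} (ht : (t : Γ) ∈ stab ξ) :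
    Fix (Subgroup.inclusion hMU) ξ t := by
  refine ⟨fun n => ⟨⟨_, conj_mem_of_mem ht.1 n⟩, rfl⟩, fun n n' hn => ?_⟩
  have h1 : (n' : Γ) = t * n * (t : Γ)⁻¹ := congrArg (fun z : U => (z : Γ)) hn
  rw [← tw_apply' ht.1 ξ n n' h1, ht.2]

theorem WC_inclusion_iff {U : Subgroup Γ} (hMU : M ≤ U) {ξ : M → ℂ} {x y : U} {w : ℂ} :
    WC (Subgroup.inclusion hMU) ξ x y w ↔ WC M.subtype ξ (x : Γ) (y : Γ) w :=
  (WC.comp_iff (i := Subgroup.inclusion hMU) (j := U.subtype) Subtype.val_injective).symm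

theorem WC_of_restrict {ξ : M → ℂ} (hξ : IsIrrCharacter M ξ) (hKM : K ≤ M)
    (hr : IsIrrCharacter K (ξ ∘ Subgroup.inclusion hKM)) {x y : Γ} {w : ℂ}
    (hx : Fix M.subtype ξ x) (hy : Fix M.subtype ξ y)
    (hxK : x ∈ Subgroup.normalizer (K : Set Γ)) (hyK : y ∈ Subgroup.normalizer (K : Set Γ))
    (hxy : ⁅x, y⁆ ∈ K) (h : WC K.subtype (ξ ∘ Subgroup.inclusion hKM) x y w) :
    WC M.subtype ξ x y w := by
  obtain ⟨w', hw'⟩ := exists_WC (i := M.subtype) Subtype.val_injective hξ hx hy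
    (c := ⟨⁅x, y⁆, hKM hxy⟩) rfl
  have h1 : WC (M.subtype.comp (Subgroup.inclusion hKM)) (ξ ∘ Subgroup.inclusion hKM) x y w' := by
    refine WC.restrict (i := M.subtype) Subtype.val_injective hw' hr ?_ ?_ ?_ ?_ ?_
    · exact fun a => ⟨⟨_, conj_mem_of_mem hxK a⟩, rfl⟩
    · intro a
      refine ⟨⟨_, conj_mem_of_mem (Subgroup.inv_mem _ hxK) a⟩, ?_⟩
      show x⁻¹ * (a : Γ) * x⁻¹⁻¹ = x⁻¹ * a * x
      rw [inv_inv]
    · exact fun a => ⟨⟨_, conj_mem_of_mem hyK a⟩, rfl⟩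
    · intro a
      refine ⟨⟨_, conj_mem_of_mem (Subgroup.inv_mem _ hyK) a⟩, ?_⟩
      show y⁻¹ * (a : Γ) * y⁻¹⁻¹ = y⁻¹ * a * y
      rw [inv_inv]
    · exact ⟨⟨⁅x, y⁆, hxy⟩, rfl⟩
  have h2 : w' = w := WC.unique (i := K.subtype) Subtype.val_injective h1 h
  rwa [← h2]

/-- **The count.** -/
theorem fiber [Fact p.Prime] (D : Data p K S C M M') {ξ : M → ℂ} {ξ' : M' → ℂ} (h : Sp D ξ ξ')
    (T U V : Subgroup Γ)
    (hTp : ∀ t ∈ T, ¬ p ∣ orderOf t) (hTK : T ≤ Subgroup.normalizer (K : Set Γ))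
    (hTS : T ≤ Subgroup.normalizer (S : Set Γ))
    (hTM : T ⊓ M ≤ C) (hTM' : T ⊓ M' ≤ C) (hMU : M ≤ U) (hMV : M' ≤ V) (hTU : T ≤ U) (hTV : T ≤ V)
    (hU : U ≤ stab ξ) (hV : V ≤ stab ξ') (hUT : ∀ u ∈ U, ∃ m ∈ M, ∃ t ∈ T, u = m * t)
    (hVT : ∀ u ∈ V, ∃ m ∈ M', ∃ t ∈ T, u = m * t) :
    Nat.card {χ : IrrCharacter U // Over (Subgroup.inclusion hMU) (χ : U → ℂ) ξ} =
      Nat.card {ψ : IrrCharacter V // Over (Subgroup.inclusion hMV) (ψ : V → ℂ) ξ'} := by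
  classical
  letI := Fintype.ofFinite T
  have hTC : ∀ t ∈ T, ∀ c ∈ C, t * c * t⁻¹ ∈ C := by
    intro t ht
    refine D.cop.nrm_C (fun g hg => conj_mem_of_mem (hTK ht) ⟨g, hg⟩) (fun s hs => ?_)
    have := conj_mem_of_mem (Subgroup.inv_mem _ (hTS ht)) ⟨s, hs⟩
    rwa [inv_inv] at this
  have hTCn : T ≤ Subgroup.normalizer (C : Set Γ) := fun t ht =>
    Step.mem_normalizer_of_conj (hTC t ht)
  have h1 := countC (H := T) (Subgroup.inclusion hMU) (Subgroup.inclusion_injective _)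
    (by rw [Subgroup.inclusion_range]; exact normal_subgroupOf (fun u hu => (hU hu).1)) h.irr
    (fun g n n' hn => (fix_of_stab hMU (hU g.2)).inv n n' hn)
    (Subgroup.inclusion hTU) (Subgroup.inclusion_injective _) (fun g => by
      obtain ⟨m, hm, t, ht, hg⟩ := hUT g g.2
      exact ⟨⟨m, hm⟩, ⟨t, ht⟩, Subtype.ext hg⟩)
  have h2 := countC (H := T) (Subgroup.inclusion hMV) (Subgroup.inclusion_injective _)
    (by rw [Subgroup.inclusion_range]; exact normal_subgroupOf (fun u hu => (hV hu).1)) h.irr'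
    (fun g n n' hn => (fix_of_stab hMV (hV g.2)).inv n n' hn)
    (Subgroup.inclusion hTV) (Subgroup.inclusion_injective _) (fun g => by
      obtain ⟨m, hm, t, ht, hg⟩ := hVT g g.2
      exact ⟨⟨m, hm⟩, ⟨t, ht⟩, Subtype.ext hg⟩)
  have h3 : ∀ t t' : T, OmC (Subgroup.inclusion hMU) ξ (Subgroup.inclusion hTU t)
      (Subgroup.inclusion hTU t') = OmC (Subgroup.inclusion hMV) ξ' (Subgroup.inclusion hTV t)
      (Subgroup.inclusion hTV t') := by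
    intro t t'
    by_cases hc : ⁅(t : Γ), (t' : Γ)⁆ ∈ C
    · have hA : Subgroup.closure {(t : Γ), (t' : Γ)} ≤ T := by
        rw [Subgroup.closure_le]
        rintro z (rfl | rfl)
        exacts [t.2, t'.2]
      have hfix : ∀ a ∈ Subgroup.closure {(t : Γ), (t' : Γ)},
          Fix K.subtype (ξ ∘ Subgroup.inclusion D.KM) a := by
        intro a ha
        have haT := hA ha
        have hst := hU (hTU haT)
        refine ⟨fun n => ⟨⟨_, conj_mem_of_mem (hTK haT) n⟩, rfl⟩, fun n n' hn => ?_⟩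
        rw [Function.comp_apply, Function.comp_apply,
          ← tw_apply' hst.1 ξ (Subgroup.inclusion D.KM n) (Subgroup.inclusion D.KM n') hn, hst.2]
      obtain ⟨w, hw1, hw2⟩ := chain (Subgroup.closure {(t : Γ), (t' : Γ)})
        (fun a ha => hTp a (hA ha)) h.res hfix (Nat.card S) S C le_rfl D.cop (D.sinv h.irr)
        (fun a ha s hs => conj_mem_of_mem (hTS (hA ha)) ⟨s, hs⟩)
        (comm_closure_pair hTC t.2 t'.2 hc) _ h.res' h.pp (t : Γ)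
        (Subgroup.subset_closure (by simp)) (t' : Γ) (Subgroup.subset_closure (by simp))
      have hf : ∀ a : T, Fix M.subtype ξ (a : Γ) := fun a => by
        have hst := hU (hTU a.2)
        refine ⟨fun n => ⟨⟨_, conj_mem_of_mem hst.1 n⟩, rfl⟩, fun n n' hn => ?_⟩
        rw [← tw_apply' hst.1 ξ n n' hn, hst.2]
      have hf' : ∀ a : T, Fix M'.subtype ξ' (a : Γ) := fun a => by
        have hst := hV (hTV a.2)
        refine ⟨fun n => ⟨⟨_, conj_mem_of_mem hst.1 n⟩, rfl⟩, fun n n' hn => ?_⟩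
        rw [← tw_apply' hst.1 ξ' n n' hn, hst.2]
      have hw3 := WC_of_restrict h.irr D.KM h.res (hf t) (hf t') (hTK t.2) (hTK t'.2)
        (D.cop.le hc) hw1
      have hw4 := WC_of_restrict h.irr' D.CM h.res' (hf' t) (hf' t') (hTCn t.2) (hTCn t'.2)
        hc hw2
      rw [OmC_of_WC (Subgroup.inclusion_injective _) ((WC_inclusion_iff hMU).2 hw3),
        OmC_of_WC (Subgroup.inclusion_injective _) ((WC_inclusion_iff hMV).2 hw4)]
    · rw [OmC_of_not, OmC_of_not]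
      · rintro ⟨c, hc'⟩
        have h4 : (c : Γ) = ⁅(t : Γ), (t' : Γ)⁆ := congrArg (fun z : V => (z : Γ)) hc'
        exact hc (hTM' ⟨T.mul_mem (T.mul_mem (T.mul_mem t.2 t'.2) (T.inv_mem t.2))
          (T.inv_mem t'.2), h4 ▸ c.2⟩)
      · rintro ⟨c, hc'⟩
        have h4 : (c : Γ) = ⁅(t : Γ), (t' : Γ)⁆ := congrArg (fun z : U => (z : Γ)) hc'
        exact hc (hTM ⟨T.mul_mem (T.mul_mem (T.mul_mem t.2 t'.2) (T.inv_mem t.2))
          (T.inv_mem t'.2), h4 ▸ c.2⟩)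
  have h4 : Nat.card {t : T // Subgroup.inclusion hTU t ∈ (Subgroup.inclusion hMU).range} =
      Nat.card {t : T // Subgroup.inclusion hTV t ∈ (Subgroup.inclusion hMV).range} := by
    refine Nat.card_congr (Equiv.subtypeEquivRight fun t => ?_)
    rw [Subgroup.inclusion_range, Subgroup.inclusion_range, Subgroup.mem_subgroupOf,
      Subgroup.mem_subgroupOf]
    constructor
    · intro ht
      exact D.CM (hTM ⟨t.2, ht⟩)
    · intro ht
      exact D.KM (D.cop.le (hTM' ⟨t.2, ht⟩))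
  have h5 : (Nat.card {t : T // Subgroup.inclusion hTV t ∈ (Subgroup.inclusion hMV).range} : ℂ) ≠ 0 := by
    have : Nonempty {t : T // Subgroup.inclusion hTV t ∈ (Subgroup.inclusion hMV).range} :=
      ⟨⟨1, by rw [map_one]; exact Subgroup.one_mem _⟩⟩
    exact_mod_cast Nat.card_pos.ne'
  have h6 : (Nat.card T : ℂ) ≠ 0 := by exact_mod_cast Nat.card_pos.ne'
  simp only [h3] at h1
  rw [← h2, h4] at h1
  have h7 := mul_right_cancel₀ (mul_ne_zero h6 h5) h1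
  exact_mod_cast h7

end Cfsg.Agent.H676.RM.Fiber
end

-- part: H676/RM/Central
section
/-!
# The central case

`central_case` : `Z ≤ Z(Γ)`, `Z ≤ K ⊴ Γ`, `p ∤ |K : Z|`, `K S ⊴ Γ` : the numbers of the irreducible characters of
degree prime to `p` over `λ ∈ Irr(Z)` of `Γ` and of `N_Γ(S)` are equal.
-/

set_option autoImplicit false
set_option linter.style.haveILetI false
set_option linter.unusedSectionVars false

namespace Cfsg.Agent.H676.RM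

open Cfsg Module Cfsg.Agent.H676.RM.Star Cfsg.Agent.H676.RM.Lc Cfsg.Agent.H676.RM.PairChar
open Cfsg.Agent.H676.RM.Corr Cfsg.Agent.H676.RM.Chain Cfsg.Agent.H672.RM
open Cfsg.Agent.Characters.Core Cfsg.Agent.H672 Cfsg.Agent.CharactersDeep.ExtUnique
open scoped ComplexConjugate commutatorElement

variable {Γ : Type*} [Group Γ] [Finite Γ] {p : ℕ} [Fact p.Prime]

/-- over an irreducible character of `p'`-degree of a normal subgroup of `p'`-index, all degrees are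
prime to `p`. -/
theorem cnt_eq_card_over {W U : Subgroup Γ} (hWU : W ≤ U)
    (hU : U ≤ Subgroup.normalizer (W : Set Γ)) {θ : W → ℂ} (hθ : IsIrrCharacter W θ)
    (hd : ¬ p ∣ charDegree θ) (hi : ¬ p ∣ W.relIndex U) :
    Cnt p (Subgroup.inclusion hWU) θ =
      Nat.card {χ : IrrCharacter U // Over (Subgroup.inclusion hWU) (χ : U → ℂ) θ} := by
  refine Nat.card_congr (Equiv.subtypeEquivRight fun χ => ⟨fun h => h.2, fun h => ⟨?_, h⟩⟩)
  obtain ⟨h1, h2⟩ := div_dvd_of_over hWU hU χ.2 hθ h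
  intro h3
  rw [← Nat.div_mul_cancel h1] at h3
  rcases (Nat.Prime.dvd_mul Fact.out).1 h3 with h4 | h4
  · exact hi (h4.trans h2)
  · exact hd h4

/-- the value on `Z` of the characters over an irreducible character. -/
theorem over_lam_iff {Z W U : Subgroup Γ} (hZ : Z ≤ Subgroup.center Γ) (hZW : Z ≤ W) (hWU : W ≤ U)
    (lam : Z →* ℂˣ) {χ : U → ℂ} (hχ : IsIrrCharacter U χ) {θ : W → ℂ} (hθ : IsIrrCharacter W θ)
    (ho : Over (Subgroup.inclusion hWU) χ θ) :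
    (∀ z : Z, χ ⟨z, hWU (hZW z.2)⟩ = χ 1 * lam z) ↔ ∀ z : Z, θ ⟨z, hZW z.2⟩ = θ 1 * lam z := by
  have hc : ∀ z : Z, ∀ x : Γ, (z : Γ) * x = x * z := fun z x =>
    (Subgroup.mem_center_iff.1 (hZ z.2) x).symm
  have hcU : ∀ z : Z, ∀ x : U, (⟨z, hWU (hZW z.2)⟩ : U) * x = x * ⟨z, hWU (hZW z.2)⟩ := fun z x =>
    Subtype.ext (hc z x)
  have hcW : ∀ z : Z, ∀ x : W, (⟨z, hZW z.2⟩ : W) * x = x * ⟨z, hZW z.2⟩ := fun z x =>
    Subtype.ext (hc z x)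
  refine forall_congr' fun z => ?_
  rw [← CC_iff hχ (hcU z), ← CC_iff hθ (hcW z)]
  obtain ⟨ω, hω, -⟩ := exists_CC hχ (hcU z)
  obtain ⟨ω', hω', -⟩ := exists_CC hθ (hcW z)
  have h1 : ω = ω' := CC.of_over (f := Subgroup.inclusion hWU) hθ ho hω hω'
  subst h1
  constructor
  · intro h
    rwa [h.unique hχ hω]
  · intro h
    rwa [h.unique hθ hω']

/-- The count, with `Γ` replaced by `⊤`. -/
theorem central_case_aux (Z K : Subgroup Γ) (hZ : Z ≤ Subgroup.center Γ)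
    [hKn : K.Normal] (hZK : Z ≤ K) (hK : ¬ p ∣ Z.relIndex K) (S : Sylow p Γ)
    (hKS : (K ⊔ (S : Subgroup Γ)).Normal) (lam : Z →* ℂˣ) (N : Subgroup Γ)
    (hN : N = Subgroup.normalizer ((S : Subgroup Γ) : Set Γ)) (hZN : Z ≤ N) :
    Nat.card {χ : IrrCharacter (⊤ : Subgroup Γ) // ¬ p ∣ charDegree (χ : (⊤ : Subgroup Γ) → ℂ) ∧
      ∀ z : Z, (χ : (⊤ : Subgroup Γ) → ℂ) ⟨z, Subgroup.mem_top _⟩ =
        (χ : (⊤ : Subgroup Γ) → ℂ) 1 * lam z} =
    Nat.card {ψ : IrrCharacter N // ¬ p ∣ charDegree (ψ : N → ℂ) ∧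
      ∀ z : Z, (ψ : N → ℂ) ⟨z, hZN z.2⟩ = (ψ : N → ℂ) 1 * lam z} := by
  classical
  have hp : p.Prime := Fact.out
  obtain ⟨K0, hK0n, hK0, hK0p, hKK0⟩ := Grp.exists_hall hZ hZK hK S
  obtain ⟨H, hHN, hHp, hNH⟩ := Grp.exists_compl S
  rw [← hN] at hHN hNH
  obtain ⟨S', hS'⟩ : ∃ S' : Subgroup Γ, S' = (S : Subgroup Γ) := ⟨_, rfl⟩
  have hSN : S' ≤ N := by rw [hN, hS']; exact Subgroup.le_normalizer
  have hNS : N ≤ Subgroup.normalizer (S' : Set Γ) := by rw [hN, hS']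
  have hSi : ∀ V : Subgroup Γ, S' ≤ V → ¬ p ∣ S'.relIndex V := by
    intro V hV hd
    apply S.not_dvd_index
    rw [← hS', ← Subgroup.relIndex_mul_index hV]
    exact hd.mul_right _
  rw [← hS'] at hKS hKK0
  have hfrat : ∀ V : Subgroup Γ, V.Normal → S' ≤ V → ∀ g : Γ, ∃ m ∈ V, ∃ n ∈ N, g = m * n := by
    intro V hV hSV g
    rw [hS'] at hSV
    rw [hN]
    exact Grp.frattini S V hSV g
  have hSp : IsPGroup p S' := by rw [hS']; exact S.isPGroup'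
  have hcen : ∀ {x : Γ}, x ∈ Subgroup.center Γ → ∀ {n : ℕ}, x ^ p ^ n = 1 → x ∈ S' := by
    intro x hx n hn
    rw [hS']
    exact Grp.central_mem_sylow S hx hn
  have hNH' : ∀ n ∈ N, ∃ s ∈ S', ∃ h ∈ H, n = s * h := by
    intro n hn
    rw [hS']
    exact hNH n hn
  rw [← hS'] at hN
  clear hNH
  clear hS' S
  -- the groups
  obtain ⟨C, hC⟩ : ∃ C : Subgroup Γ, C = K0 ⊓ Subgroup.centralizer (S' : Set Γ) := ⟨_, rfl⟩
  have hcop : Cop p K0 S' C := ⟨fun s _ g hg => hK0n.conj_mem g hg s, hK0p, hSp, hC⟩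
  obtain ⟨M, hM⟩ : ∃ M : Subgroup Γ, M = K ⊔ S' := ⟨_, rfl⟩
  rw [← hM] at hKS
  have hKM : K ≤ M := hM ▸ le_sup_left
  have hSM : S' ≤ M := hM ▸ le_sup_right
  have hK0K : K0 ≤ K := fun g hg => ((hK0 g).1 hg).1
  obtain ⟨M', hM'⟩ : ∃ M' : Subgroup Γ, M' = C ⊔ S' := ⟨_, rfl⟩
  have hCM' : C ≤ M' := hM' ▸ le_sup_left
  have hSM' : S' ≤ M' := hM' ▸ le_sup_right
  have D : Data p K0 S' C M M' := ⟨hcop, hK0K.trans hKM, hSM, by
    rw [hM]; exact sup_le hKK0 le_sup_right, hCM', hSM', hM'.le⟩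
  have hCN : C ≤ N := by
    intro g hg
    rw [hN]
    refine Step.mem_normalizer_of_conj (fun s hs => ?_)
    rw [← (hcop.mem_iff.1 hg).2 s hs, mul_inv_cancel_right]; exact hs
  have hM'N : M' ≤ N := hM' ▸ sup_le hCN hSN
  have allK0 : ∀ x, x ∈ Subgroup.normalizer (K0 : Set Γ) := fun x => by
    rw [Subgroup.normalizer_eq_top_iff.2 hK0n]; exact Subgroup.mem_top x
  have allM : ∀ x, x ∈ Subgroup.normalizer (M : Set Γ) := fun x => by
    rw [Subgroup.normalizer_eq_top_iff.2 hKS]; exact Subgroup.mem_top x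
  have hNC : N ≤ Subgroup.normalizer (C : Set Γ) := fun n hn =>
    Step.mem_normalizer_of_conj (hcop.nrm_C (fun g hg => hK0n.conj_mem g hg n) (fun s hs => by
      have := conj_mem_of_mem (Subgroup.inv_mem _ (hNS hn)) ⟨s, hs⟩
      rwa [inv_inv] at this))
  have hNM' : N ≤ Subgroup.normalizer (M' : Set Γ) := fun n hn => by
    apply mem_normalizer_of_map_conj
    rw [hM', Subgroup.map_sup, map_conj_eq_of_mem (hNC hn), map_conj_eq_of_mem (hNS hn)]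
  have hK0N : ∀ g ∈ K0, g ∈ N → g ∈ C := by
    intro g hg hgN
    refine hcop.mem_iff.2 ⟨hg, fun s hs => ?_⟩
    have h1 : g * s * g⁻¹ * s⁻¹ ∈ S' :=
      S'.mul_mem (conj_mem_of_mem (hNS hgN) ⟨s, hs⟩) (S'.inv_mem hs)
    have h2 : g * s * g⁻¹ * s⁻¹ ∈ K0 := by
      have := K0.mul_mem hg (hK0n.conj_mem _ (K0.inv_mem hg) s)
      have e : g * (s * g⁻¹ * s⁻¹) = g * s * g⁻¹ * s⁻¹ := by group
      rwa [e] at this
    have h3 : (⟨_, h1⟩ : S') = 1 := D.sd.disj (k := ⟨_, h2⟩) (s := ⟨_, h1⟩) (Subtype.ext rfl)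
    have h4 : g * s * g⁻¹ * s⁻¹ = 1 := congrArg Subtype.val h3
    calc s * g = (g * s * g⁻¹ * s⁻¹)⁻¹ * (g * s) := by group
      _ = g * s := by rw [h4, inv_one, one_mul]
  have hHM : H ⊓ M ≤ C := by
    rintro g ⟨hgH, hgM⟩
    obtain ⟨π, hπ1, hπ2⟩ := D.sd.exists_proj
    obtain ⟨k, s, hks⟩ := D.sd.dec ⟨g, hgM⟩
    have h1 : π ⟨g, hgM⟩ = s := by rw [hks, map_mul, hπ1, hπ2, one_mul]
    have h2 : s ^ orderOf g = 1 := by
      rw [← h1, ← map_pow]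
      have : (⟨g, hgM⟩ : M) ^ orderOf g = 1 := Subtype.ext (pow_orderOf_eq_one g)
      rw [this, map_one]
    have h3 : s = 1 := by
      have h4 := pow_gcd_eq_one.2 ⟨h2, (pow_card_eq_one' : s ^ Nat.card S' = 1)⟩
      rwa [Nat.Coprime.gcd_eq_one (coprime_card hSp (hHp g hgH)), pow_one] at h4
    have h4 : g = k := by
      have h5 := congrArg Subtype.val hks
      rw [h3, map_one, mul_one] at h5
      exact h5
    exact hK0N g (h4 ▸ k.2) (hHN hgH)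
  have hM'M : M' ≤ M := hM' ▸ sup_le (hcop.le.trans D.KM) hSM
  have hcZ : ∀ z ∈ Z, ∀ x : Γ, z * x = x * z := fun z hz x =>
    (Subgroup.mem_center_iff.1 (hZ hz) x).symm
  have hZab : ∀ z ∈ Z, ∃ a b, Nat.Coprime a b ∧ z ^ a ∈ C ∧ z ^ b ∈ S' := by
    intro z hz
    obtain ⟨k, m, hm, hkm⟩ := Nat.exists_eq_pow_mul_and_not_dvd (orderOf_pos z).ne' p hp.ne_one
    refine ⟨p ^ k, m, Nat.Coprime.pow_left k ((hp.coprime_iff_not_dvd).2 hm), ?_, ?_⟩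
    · refine hcop.mem_iff.2 ⟨(hK0 _).2 ⟨K.pow_mem (hZK hz) _, fun hd => hm (hd.trans ?_)⟩, ?_⟩
      · apply orderOf_dvd_of_pow_eq_one
        rw [← pow_mul, ← hkm, pow_orderOf_eq_one]
      · intro s _
        exact (hcZ _ (Z.pow_mem hz _) s).symm
    · refine hcen (n := k) (hZ (Z.pow_mem hz _)) ?_
      rw [← pow_mul, mul_comm, ← hkm, pow_orderOf_eq_one]
  have hZM : Z ≤ M := hZK.trans hKM
  have hZM' : Z ≤ M' := by
    intro z hz
    obtain ⟨a, b, hab, ha, hb⟩ := hZab z hz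
    exact Grp.mem_of_pow_mem hab (hCM' ha) (hSM' hb)
  -- the value on `Z` of corresponding characters
  have hSpZ : ∀ {ξ : M → ℂ} {ξ' : M' → ℂ}, Sp D ξ ξ' →
      ((∀ z : Z, ξ ⟨z, hZM z.2⟩ = ξ 1 * lam z) ↔ ∀ z : Z, ξ' ⟨z, hZM' z.2⟩ = ξ' 1 * lam z) := by
    intro ξ ξ' h
    refine forall_congr' fun z => ?_
    have hcM : ∀ x : M, (⟨z, hZM z.2⟩ : M) * x = x * ⟨z, hZM z.2⟩ := fun x =>
      Subtype.ext (hcZ z z.2 x)
    have hcM' : ∀ x : M', (⟨z, hZM' z.2⟩ : M') * x = x * ⟨z, hZM' z.2⟩ := fun x =>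
      Subtype.ext (hcZ z z.2 x)
    rw [← CC_iff h.irr hcM, ← CC_iff h.irr' hcM']
    obtain ⟨ω, hω, -⟩ := exists_CC h.irr hcM
    obtain ⟨ω', hω', -⟩ := exists_CC h.irr' hcM'
    obtain ⟨a, b, hab, ha, hb⟩ := hZab z z.2
    have h1 : ω = ω' := h.cc (hZ z.2) (hZM z.2) (hZM' z.2) hab ha hb hω hω'
    subst h1
    constructor
    · intro h2
      rwa [h2.unique h.irr hω]
    · intro h2
      rwa [h2.unique h.irr' hω']
  have hSpc : ∀ {ξ : M → ℂ} {ξ' : M' → ℂ}, Sp D ξ ξ' → ∀ n ∈ N, Sp D (tw M n ξ) (tw M' n ξ') :=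
    fun h n hn => h.conj (allK0 n) (hNS hn) (hNC hn) (allM n) (hNM' hn)
  haveI := finite_irr (G := M)
  haveI := finite_irr (G := (⊤ : Subgroup Γ))
  haveI := finite_irr (G := N)
  have hMT : M ≤ ⊤ := le_top
  have hTM : (⊤ : Subgroup Γ) ≤ Subgroup.normalizer (M : Set Γ) := fun x _ => allM x
  let X := {ξ : IrrCharacter M // IsIrrCharacter K0 ((ξ : M → ℂ) ∘ Subgroup.inclusion D.KM) ∧
    ∀ z : Z, (ξ : M → ℂ) ⟨z, hZM z.2⟩ = (ξ : M → ℂ) 1 * lam z}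
  let r : Setoid X :=
    { r := fun x y => ∃ n ∈ N, (y.1 : M → ℂ) = tw M n (x.1 : M → ℂ)
      iseqv := by
        refine ⟨fun x => ⟨1, N.one_mem, (tw_one _).symm⟩, ?_, ?_⟩
        · rintro x y ⟨h, hh, e⟩
          refine ⟨h⁻¹, N.inv_mem hh, ?_⟩
          rw [e, ← tw_mul (allM h) (allM h⁻¹), mul_inv_cancel, tw_one]
        · rintro x y z ⟨h, hh, e⟩ ⟨h', hh', e'⟩
          refine ⟨h * h', N.mul_mem hh hh', ?_⟩
          rw [e', e, tw_mul (allM h) (allM h')] }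
  let A := {χ : IrrCharacter (⊤ : Subgroup Γ) // ¬ p ∣ charDegree (χ : (⊤ : Subgroup Γ) → ℂ) ∧
      ∀ z : Z, (χ : (⊤ : Subgroup Γ) → ℂ) ⟨z, Subgroup.mem_top _⟩ =
        (χ : (⊤ : Subgroup Γ) → ℂ) 1 * lam z}
  let B := {ψ : IrrCharacter N // ¬ p ∣ charDegree (ψ : N → ℂ) ∧
      ∀ z : Z, (ψ : N → ℂ) ⟨z, hZN z.2⟩ = (ψ : N → ℂ) 1 * lam z}
  let RA : A → X → Prop := fun a x => Over (Subgroup.inclusion hMT) (a.1 : _ → ℂ) (x.1 : M → ℂ)
  let RB : B → X → Prop := fun b x => ∃ ξ' : M' → ℂ, Sp D (x.1 : M → ℂ) ξ' ∧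
    Over (Subgroup.inclusion hM'N) (b.1 : N → ℂ) ξ'
  have hA : ∀ a, ∃ x, RA a x := by
    rintro ⟨χ, h1, h2⟩
    obtain ⟨ξ, hξ, ho⟩ := exists_under (f := Subgroup.inclusion hMT) χ.2
    have h3 := (div_dvd_of_over hMT hTM χ.2 hξ ho).1
    have h4 : ¬ p ∣ charDegree ξ := fun hd => h1 (hd.trans h3)
    exact ⟨⟨⟨ξ, hξ⟩, D.sd.irr_restrict hξ h4, (over_lam_iff hZ hZM hMT lam χ.2 hξ ho).1 h2⟩, ho⟩
  have hB : ∀ b, ∃ x, RB b x := by
    rintro ⟨ψ, h1, h2⟩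
    obtain ⟨ξ', hξ', ho⟩ := exists_under (f := Subgroup.inclusion hM'N) ψ.2
    have h3 := (div_dvd_of_over hM'N hNM' ψ.2 hξ' ho).1
    have h4 : ¬ p ∣ charDegree ξ' := fun hd => h1 (hd.trans h3)
    obtain ⟨ξ, hξ⟩ := D.exists_left hξ' (D.sd'.irr_restrict hξ' h4)
    exact ⟨⟨⟨ξ, hξ.irr⟩, hξ.res, (hSpZ hξ).2 ((over_lam_iff hZ hZM' hM'N lam ψ.2 hξ' ho).1 h2)⟩,
      ξ', hξ, ho⟩
  have hA' : ∀ a x y, RA a x → (RA a y ↔ r x y) := by
    rintro ⟨χ, h1, h2⟩ x y hx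
    constructor
    · intro hy
      obtain ⟨g, -, hg⟩ := exists_tw_of_over hMT hTM χ.2 x.1.2 y.1.2 hx hy
      obtain ⟨m, hm, n, hn, rfl⟩ := hfrat M hKS hSM g
      refine ⟨n, hn, ?_⟩
      rw [hg, tw_mul (allM m) (allM n), (le_stab (isIrr_isClassFunction x.1.2) hm).2]
    · rintro ⟨n, hn, e⟩
      show Over _ _ _
      rw [e]
      exact (over_tw hMT hTM (isIrr_isClassFunction χ.2) (Subgroup.mem_top n)).2 hx
  have hB' : ∀ b x y, RB b x → (RB b y ↔ r x y) := by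
    rintro ⟨ψ, h1, h2⟩ x y ⟨ξx, hx, hox⟩
    constructor
    · rintro ⟨ξy, hy, hoy⟩
      obtain ⟨n, hn, e⟩ := exists_tw_of_over hM'N hNM' ψ.2 hx.irr' hy.irr' hox hoy
      refine ⟨n, hn, ?_⟩
      have h3 := hSpc hx n hn
      rw [← e] at h3
      exact hy.unique_left h3
    · rintro ⟨n, hn, e⟩
      refine ⟨tw M' n ξx, ?_, (over_tw hM'N hNM' (isIrr_isClassFunction ψ.2) hn).2 hox⟩
      rw [e]
      exact hSpc hx n hn
  refine card_eq_of_fibers r RA RB hA hB hA' hB' ?_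
  intro x
  obtain ⟨ξ', hξ'⟩ := D.exists_right x.1.2 x.2.1
  have e1 : Nat.card {a // RA a x} = Cnt p (Subgroup.inclusion hMT) (x.1 : M → ℂ) := by
    refine Nat.card_congr ⟨fun a => ⟨a.1.1, a.1.2.1, a.2⟩, fun a => ⟨⟨a.1, a.2.1, ?_⟩, a.2.2⟩,
      fun a => rfl, fun a => rfl⟩
    exact (over_lam_iff hZ hZM hMT lam a.1.2 x.1.2 a.2.2).2 x.2.2
  have e2 : Nat.card {b // RB b x} = Cnt p (Subgroup.inclusion hM'N) ξ' := by
    refine Nat.card_congr ⟨fun a => ⟨a.1.1, a.1.2.1, ?_⟩, fun a => ⟨⟨a.1, a.2.1, ?_⟩, ξ', hξ', a.2.2⟩,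
      fun a => rfl, fun a => rfl⟩
    · obtain ⟨ξ'', h1, h2⟩ := a.2
      rwa [hξ'.unique_right h1]
    · exact (over_lam_iff hZ hZM' hM'N lam a.1.2 hξ'.irr' a.2.2).2 ((hSpZ hξ').1 x.2.2)
  rw [e1, e2]
  -- Clifford
  have i1 : M ≤ ⊤ ⊓ stab (x.1 : M → ℂ) := le_inf le_top (le_stab (isIrr_isClassFunction x.1.2))
  have i2 : M' ≤ N ⊓ stab ξ' := le_inf hM'N (le_stab (isIrr_isClassFunction hξ'.irr'))
  have hSi' : ∀ V W : Subgroup Γ, S' ≤ V → S' ≤ W → ¬ p ∣ V.relIndex W := fun V W hV hW hd =>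
    hSi W hW (hd.trans (Subgroup.relIndex_dvd_of_le_left _ hV))
  rw [cnt_clifford hp hMT hTM x.1.2 i1 (hSi' _ _ (hSM.trans (i1.trans inf_le_right)) le_top),
    cnt_clifford hp hM'N hNM' hξ'.irr' i2 (hSi' _ _ (hSM'.trans (i2.trans inf_le_right)) hSN),
    cnt_eq_card_over i1 (inf_le_left.trans hTM) x.1.2 (D.ndvd x.2.1) (hSi' _ _ hSM (hSM.trans i1)),
    cnt_eq_card_over i2 (inf_le_left.trans hNM') hξ'.irr' (D.ndvd' hξ'.res')
      (hSi' _ _ hSM' (hSM'.trans i2))]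
  -- the stabilizers
  have hst : ∀ n ∈ N, (n ∈ stab (x.1 : M → ℂ) ↔ n ∈ stab ξ') := by
    intro n hn
    have h1 := hSpc hξ' n hn
    constructor
    · intro h2
      refine ⟨hNM' hn, ?_⟩
      rw [h2.2] at h1
      exact h1.unique_right hξ'
    · intro h2
      refine ⟨allM n, ?_⟩
      rw [h2.2] at h1
      exact h1.unique_left hξ'
  refine Fiber.fiber D hξ' (H ⊓ stab (x.1 : M → ℂ)) _ _ (fun t ht => hHp t ht.1)
    (fun t _ => allK0 t) (fun t ht => hNS (hHN ht.1)) ?_ ?_ i1 i2 (le_inf le_top inf_le_right) ?_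
    inf_le_right inf_le_right ?_ ?_
  · rintro g ⟨⟨h1, -⟩, h2⟩
    exact hHM ⟨h1, h2⟩
  · rintro g ⟨⟨h1, -⟩, h2⟩
    exact hHM ⟨h1, hM'M h2⟩
  · rintro g ⟨h1, h2⟩
    exact ⟨hHN h1, (hst g (hHN h1)).1 h2⟩
  · rintro u ⟨-, hu⟩
    obtain ⟨m, hm, n, hn, rfl⟩ := hfrat M hKS hSM u
    obtain ⟨s, hs, h, hh, rfl⟩ := hNH' n hn
    refine ⟨m * s, M.mul_mem hm (hSM hs), h, ⟨hh, ?_⟩, by group⟩
    have h1 : m * s ∈ stab (x.1 : M → ℂ) := i1.trans inf_le_right (M.mul_mem hm (hSM hs))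
    have h2 := Subgroup.mul_mem _ (Subgroup.inv_mem _ h1) hu
    have e : (m * s)⁻¹ * (m * (s * h)) = h := by group
    rwa [e] at h2
  · rintro u ⟨huN, hu⟩
    obtain ⟨s, hs, h, hh, rfl⟩ := hNH' u huN
    refine ⟨s, hSM' hs, h, ⟨hh, ?_⟩, rfl⟩
    refine (hst h (hHN hh)).2 ?_
    have h1 : s ∈ stab ξ' := i2.trans inf_le_right (hSM' hs)
    have h2 := Subgroup.mul_mem _ (Subgroup.inv_mem _ h1) hu
    have e : s⁻¹ * (s * h) = h := by group
    rwa [e] at h2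

/-- **The central case of the relative McKay correspondence.** -/
theorem central_case {Γ : Type*} [Group Γ] [Finite Γ] (p : ℕ) [Fact p.Prime] (Z K : Subgroup Γ)
    (hZ : Z ≤ Subgroup.center Γ)
    [K.Normal] (hZK : Z ≤ K) (hK : ¬ p ∣ Z.relIndex K) (S : Sylow p Γ)
    (hKS : (K ⊔ (S : Subgroup Γ)).Normal) (lam : Z →* ℂˣ) (N : Subgroup Γ)
    (hN : N = Subgroup.normalizer ((S : Subgroup Γ) : Set Γ)) (hZN : Z ≤ N) :
    Nat.card {χ : IrrCharacter Γ // ¬ p ∣ charDegree (χ : Γ → ℂ) ∧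
      ∀ z : Z, (χ : Γ → ℂ) z = (χ : Γ → ℂ) 1 * lam z} =
    Nat.card {ψ : IrrCharacter N // ¬ p ∣ charDegree (ψ : N → ℂ) ∧
      ∀ z : Z, (ψ : N → ℂ) ⟨z, hZN z.2⟩ = (ψ : N → ℂ) 1 * lam z} := by
  rw [← central_case_aux Z K hZ hZK hK S hKS lam N hN hZN]
  refine Nat.card_congr ((irrEquiv (Subgroup.topEquiv : (⊤ : Subgroup Γ) ≃* Γ)).subtypeEquiv ?_)
  intro χ
  have h1 : charDegree ((irrEquiv (Subgroup.topEquiv : (⊤ : Subgroup Γ) ≃* Γ) χ :
      IrrCharacter (⊤ : Subgroup Γ)) : (⊤ : Subgroup Γ) → ℂ) = charDegree (χ : Γ → ℂ) :=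
    charDegree_comp_one (Subgroup.topEquiv : (⊤ : Subgroup Γ) ≃* Γ).toMonoidHom _
  rw [h1]
  rfl

end Cfsg.Agent.H676.RM
end
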